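import Cfsg.Agent.H334.Sp4.Cent

/-!
# The centralizer of the involution `t`: `C_G(t) = (SL(2,q) ∘ SL(2,q)) ⟨w⟩`
-/

set_option autoImplicit false
set_option linter.unusedSectionVars false
set_option linter.unusedVariables false
set_option linter.unusedSimpArgs false

universe u v

open Subgroup

namespace Cfsg.Agent.H334.Sp4

open Cfsg.Agent.H339 Cfsg.Agent.H334.Symp Cfsg.Agent.H334.Symp.El

theorem sl_center {F : Type v} [Field F] {A : Matrix.SpecialLinearGroup (Fin 2) F}
    (hA : A ∈ center (Matrix.SpecialLinearGroup (Fin 2) F)) : A = 1 ∨ A = -1 := by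
  rw [mem_center_iff] at hA
  have h1 := hA (up 1)
  have h00 := congrArg (fun B : Matrix.SpecialLinearGroup (Fin 2) F => B.1 0 0) h1
  have h01 := congrArg (fun B : Matrix.SpecialLinearGroup (Fin 2) F => B.1 0 1) h1
  simp only [sl_mul, up00, up01, up10, up11] at h00 h01
  have h2 := hA (w0 F)
  have k00 := congrArg (fun B : Matrix.SpecialLinearGroup (Fin 2) F => B.1 0 0) h2
  have e00 : (w0 F).1 0 0 = 0 := rfl
  have e01 : (w0 F).1 0 1 = -1 := rfl
  have e10 : (w0 F).1 1 0 = 1 := rfl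
  have e11 : (w0 F).1 1 1 = 0 := rfl
  simp only [sl_mul, e00, e01, e10, e11] at k00
  have h10 : A.1 1 0 = 0 := by linear_combination h00
  have hd : A.1 0 0 = A.1 1 1 := by linear_combination -h01
  have h01' : A.1 0 1 = 0 := by linear_combination -k00 - h10
  have hdet := det_eq A
  rw [h10, ← hd, mul_zero, sub_zero] at hdet
  rcases mul_self_eq_one_iff.1 hdet with h | h
  · left
    apply sl_ext
    · rw [h, sl_one00]
    · rw [h01', sl_one01]
    · rw [h10, sl_one10]
    · rw [← hd, h, sl_one11]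
  · right
    apply sl_ext
    · rw [h, neg_one_apply, sl_one00]
    · rw [h01', neg_one_apply, sl_one01, neg_zero]
    · rw [h10, neg_one_apply, sl_one10, neg_zero]
    · rw [← hd, h, neg_one_apply, sl_one11]

theorem dg_up {F : Type v} [Field F] (r : Fˣ) (s : F) :
    dg r * up s * (dg r)⁻¹ = up ((r : F) * r * s) := by
  have := r.ne_zero
  apply sl_ext
  · simp only [sl_mul, dg00, dg01, dg10, dg11, up00, up01, up10, up11, sl_inv00, sl_inv01, sl_inv10, sl_inv11,
      Units.val_inv_eq_inv_val]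
    field_simp
    ring
  · simp only [sl_mul, dg00, dg01, dg10, dg11, up00, up01, up10, up11, sl_inv00, sl_inv01, sl_inv10, sl_inv11,
      Units.val_inv_eq_inv_val]
    ring
  · simp only [sl_mul, dg00, dg01, dg10, dg11, up00, up01, up10, up11, sl_inv00, sl_inv01, sl_inv10, sl_inv11,
      Units.val_inv_eq_inv_val]
    ring
  · simp only [sl_mul, dg00, dg01, dg10, dg11, up00, up01, up10, up11, sl_inv00, sl_inv01, sl_inv10, sl_inv11,
      Units.val_inv_eq_inv_val]
    field_simp
    ring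

namespace Sw

variable {G : Type u} {F : Type v} [Group G] [Field F] {f : El F →* G}

theorem t_ne (S : Sw f) (h2F : (2 : F) ≠ 0) : f (ts F) ≠ 1 := by
  intro h
  rw [← map_one f] at h
  have h1 := orderOf_ts h2F (F := F)
  rw [S.inj h, orderOf_one] at h1
  norm_num at h1

theorem t_sq (S : Sw f) : f (ts F) * f (ts F) = 1 := by
  rw [← map_mul, ts_sq, map_one]

/-- the quotient of `C_G(t)` by `⟨t⟩` -/
theorem exists_quot (S : Sw f) : ∃ (X : Type u) (_ : Group X) (π : ↥(centralizer ({f (ts F)} : Set G)) →* X),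
    Function.Surjective π ∧ ∀ y : ↥(centralizer ({f (ts F)} : Set G)), π y = 1 ↔ (y : G) = 1 ∨ (y : G) = f (ts F) := by
  have htt := S.t_sq
  let K : Subgroup ↥(centralizer ({f (ts F)} : Set G)) :=
    { carrier := {y | (y : G) = 1 ∨ (y : G) = f (ts F)}
      one_mem' := Or.inl rfl
      mul_mem' := by
        rintro a b ha hb
        show (a : G) * b = 1 ∨ (a : G) * b = f (ts F)
        rcases ha with ha | ha <;> rcases hb with hb | hb <;> rw [ha, hb]
        · left; simp
        · right; simp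
        · right; simp
        · left; exact htt
      inv_mem' := by
        intro a ha
        show ((a : G))⁻¹ = 1 ∨ ((a : G))⁻¹ = f (ts F)
        rcases ha with ha | ha <;> rw [ha]
        · left; simp
        · right; exact inv_eq_of_mul_eq_one_left htt }
  have hK : K.Normal := ⟨by
    intro n hn g
    show (g : G) * n * (g : G)⁻¹ = 1 ∨ (g : G) * n * (g : G)⁻¹ = f (ts F)
    have hg : (g : G) * f (ts F) = f (ts F) * g := mem_centralizer_singleton_iff.1 g.2
    rcases hn with hn | hn <;> rw [hn]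
    · left; group
    · right; rw [hg]; group⟩
  refine ⟨_, inferInstance, QuotientGroup.mk' K, QuotientGroup.mk'_surjective K, fun y => ?_⟩
  rw [QuotientGroup.mk'_apply, QuotientGroup.eq_one_iff]
  rfl

end Sw

/-- the context: `C_G(t)`, its quotient by `t`, and the swap -/
structure Ctx {G : Type u} {F : Type v} [Group G] [Field F] (f : El F →* G) (w : G) {X : Type u} [Group X]
    (π : ↥(centralizer ({f (ts F)} : Set G)) →* X) : Prop extends Sw f where
  wt : w * f (ts F) = f (ts F) * w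
  wZ : ∀ x, x ∈ (Zs F).map f ↔ w * x * w⁻¹ ∈ (Xs F).map f
  wX : ∀ x, x ∈ (Xs F).map f ↔ w * x * w⁻¹ ∈ (Zs F).map f
  surj : Function.Surjective π
  ker : ∀ y : ↥(centralizer ({f (ts F)} : Set G)), π y = 1 ↔ (y : G) = 1 ∨ (y : G) = f (ts F)
  two : (2 : F) ≠ 0
  three : (3 : F) = 0

namespace Ctx

variable {G : Type u} {F : Type v} [Group G] [Field F] {f : El F →* G} {w : G} {X : Type u} [Group X]
    {π : ↥(centralizer ({f (ts F)} : Set G)) →* X}

theorem sw (C : Ctx f w π) : Sw f := C.toSw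

theorem eq_iff (C : Ctx f w π) {a b : ↥(centralizer ({f (ts F)} : Set G))} (h : π a = π b) :
    (a : G) = b ∨ (a : G) = b * f (ts F) := by
  have h1 : π (b⁻¹ * a) = 1 := by rw [map_mul, map_inv, h, inv_mul_cancel]
  rcases (C.ker _).1 h1 with h2 | h2
  · left
    have h3 : ((b : G))⁻¹ * a = 1 := h2
    exact (inv_mul_eq_one.1 h3).symm
  · right
    have h3 : ((b : G))⁻¹ * a = f (ts F) := h2
    exact inv_mul_eq_iff_eq_mul.1 h3

/-- the embedding of `SL(2,F)` in `C_G(t)` -/
def j (C : Ctx f w π) : Matrix.SpecialLinearGroup (Fin 2) F →* ↥(centralizer ({f (ts F)} : Set G)) where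
  toFun A := ⟨f (emb F A), mem_centralizer_singleton_iff.2 (C.sw.t_comm C.two A)⟩
  map_one' := Subtype.ext (by simp)
  map_mul' A B := Subtype.ext (by simp)

theorem coe_j (C : Ctx f w π) (A : Matrix.SpecialLinearGroup (Fin 2) F) : ((C.j A : ↥(centralizer ({f (ts F)} : Set G))) : G) = f (emb F A) := rfl

/-- the element `w` -/
def wY (C : Ctx f w π) : ↥(centralizer ({f (ts F)} : Set G)) := ⟨w, mem_centralizer_singleton_iff.2 C.wt⟩

theorem coe_wY (C : Ctx f w π) : (C.wY : G) = w := rfl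

theorem f_neg (C : Ctx f w π) (A : Matrix.SpecialLinearGroup (Fin 2) F) : f (emb F (-A)) = f (emb F A) * f (ts F) := by
  rw [← map_mul]
  congr 1
  show emb F (-A) = emb F A * emb F (-1)
  rw [← map_mul]
  congr 1
  simp

/-- image of a subgroup of `G` in the quotient -/
def im (C : Ctx f w π) (H : Subgroup G) : Subgroup X := (H.subgroupOf (centralizer ({f (ts F)} : Set G))).map π

theorem mem_im (C : Ctx f w π) {H : Subgroup G} {x : X} :
    x ∈ C.im H ↔ ∃ y : ↥(centralizer ({f (ts F)} : Set G)), (y : G) ∈ H ∧ π y = x := by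
  constructor
  · rintro ⟨y, hy, rfl⟩
    exact ⟨y, hy, rfl⟩
  · rintro ⟨y, hy, rfl⟩
    exact ⟨y, hy, rfl⟩

theorem exists_r [Fintype F] {m : ℕ} (hm1 : 1 < m) (hF : Fintype.card F = 3 ^ m) : ∃ r : Fˣ, (r : F) * r ≠ 1 := by
  by_contra hcon
  push Not at hcon
  have h7 : Nat.card Fˣ ≤ 2 := by
    have h8 : ∀ r : Fˣ, r = 1 ∨ r = -1 := by
      intro r
      have h9 : ((r : F) - 1) * (r + 1) = 0 := by linear_combination hcon r
      rcases mul_eq_zero.1 h9 with h | h
      · left; apply Units.ext; rw [Units.val_one]; linear_combination h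
      · right; apply Units.ext; rw [Units.val_neg, Units.val_one]; linear_combination h
    classical
    let g : Fˣ → Bool := fun r => decide (r = 1)
    have hg : Function.Injective g := by
      intro a b hab
      simp only [g, decide_eq_decide] at hab
      rcases h8 a with h | h <;> rcases h8 b with h' | h'
      · rw [h, h']
      · rw [h, (hab.1 h)]
      · rw [h', (hab.2 h')]
      · rw [h, h']
    have := Nat.card_le_card_of_injective g hg
    simpa using this
  rw [Nat.card_units, Nat.card_eq_fintype_card, hF] at h7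
  have h5 : 3 ^ 2 ≤ 3 ^ m := Nat.pow_le_pow_right (by norm_num) hm1
  omega

theorem up_ne {s : F} (hs : s ≠ 0) (C : Ctx f w π) : f (emb F (up s)) ≠ 1 ∧ f (emb F (up s)) ≠ f (ts F) := by
  constructor
  · intro h
    rw [← map_one f] at h
    have h1 := congrArg El.A (C.inj h)
    have h2 := congrArg (fun B : Matrix.SpecialLinearGroup (Fin 2) F => B.1 0 1) h1
    exact hs h2
  · intro h
    have h1 := congrArg El.A (C.inj h)
    have h2 := congrArg (fun B : Matrix.SpecialLinearGroup (Fin 2) F => B.1 0 0) h1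
    have h3 : (1 : F) = -1 := by
      have e : ((ts F).A).1 0 0 = -1 := by
        show ((-1 : Matrix.SpecialLinearGroup (Fin 2) F)).1 0 0 = -1
        rw [neg_one_apply, sl_one00]
      rw [← e]; exact h2
    apply C.two
    linear_combination h3

/-- the quotient has the properties of `Twin` -/
theorem twin (C : Ctx f w π) [Finite G] [Fintype F] {m : ℕ} (hm3 : 3 ≤ m) (hF : Fintype.card F = 3 ^ m) :
    ∃ h : X, Twin (C.im ((Zs F).map f)) ((π.comp C.j).range) (C.im ((Xs F).map f)) (π C.wY) h ∧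
      ¬ 3 ∣ (C.im ((As F).map f)).index := by
  have h3p : Fact (Nat.Prime 3) := ⟨Nat.prime_three⟩
  have hm1 : 1 < m := by omega
  have hcF : 3 < Fintype.card F := by
    rw [hF]
    calc 3 < 3 ^ 2 := by norm_num
      _ ≤ 3 ^ m := Nat.pow_le_pow_right (by norm_num) (by omega)
  obtain ⟨r, hr⟩ := exists_r hm1 hF
  have htt := C.sw.t_sq
  have ht1 := C.sw.t_ne C.two
  have hXfin : Finite X := Finite.of_surjective π C.surj
  -- the Sylow subgroup
  have hA3 : ∀ a ∈ (As F).map f, a ^ 3 = 1 := by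
    rintro _ ⟨k, hk, rfl⟩
    rw [← map_pow, Ms_pow C.three ⟨hk.2.1, hk.2.2⟩, map_one]
  have hAab : ∀ a ∈ (As F).map f, ∀ b ∈ (As F).map f, a * b = b * a := by
    rintro _ ⟨k, hk, rfl⟩ _ ⟨k', hk', rfl⟩
    rw [← map_mul, ← map_mul, Ms_comm ⟨hk.2.1, hk.2.2⟩ ⟨hk'.2.1, hk'.2.2⟩]
  have hAY : ∀ a ∈ (As F).map f, a ∈ centralizer ({f (ts F)} : Set G) := fun a ha =>
    mem_centralizer_singleton_iff.2 (C.sw.tA C.two ha)
  have hAsyl : ¬ 3 ∣ (((As F).map f).subgroupOf (centralizer ({f (ts F)} : Set G))).index := by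
    have hp : IsPGroup 3 (((As F).map f).subgroupOf (centralizer ({f (ts F)} : Set G))) :=
      isPGroup_of_pow fun x hx => Subtype.ext (hA3 x hx)
    obtain ⟨T, hT⟩ := hp.exists_le_sylow
    have hle : (T : Subgroup ↥(centralizer ({f (ts F)} : Set G))) ≤
        ((As F).map f).subgroupOf (centralizer ({f (ts F)} : Set G)) := by
      by_contra hcon
      obtain ⟨x, hxT, hxN, hxA⟩ :=
        Cfsg.Agent.SignalizersComponents.RelSylow.exists_mem_normalizer T.isPGroup' hT hcon
      apply hxA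
      obtain ⟨n, hn⟩ := T.isPGroup' ⟨x, hxT⟩
      refine C.sw.mem_A C.two C.three (x := (x : G)) (mem_centralizer_singleton_iff.1 x.2) ?_ (n := n) ?_
      · intro a ha
        rw [mem_normalizer_iff] at hxN
        exact (hxN ⟨a, hAY a ha⟩).1 ha
      · have := congrArg (fun y : T => ((y : ↥(centralizer ({f (ts F)} : Set G))) : G)) hn
        exact this
    rw [← le_antisymm hle hT]
    exact T.not_dvd_index
  have hcomm : ∀ z ∈ (Zs F).map f, ∀ A, z * f (emb F A) = f (emb F A) * z := fun z hz A => C.sw.comm_Z hz _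
  have hjZ : ∀ y : ↥(centralizer ({f (ts F)} : Set G)), ∀ A, (y : G) ∈ (Zs F).map f → π y * π (C.j A) = π (C.j A) * π y := by
    intro y A hy
    rw [← map_mul, ← map_mul]
    congr 1
    exact Subtype.ext (hcomm y hy A)
  have hXL : ∀ y : ↥(centralizer ({f (ts F)} : Set G)), (y : G) ∈ (Xs F).map f → ∃ s, y = C.j (up s) := by
    intro y hy
    obtain ⟨s, hs⟩ := C.sw.of_mem_X hy
    exact ⟨s, Subtype.ext hs⟩
  have hindex : ¬ 3 ∣ (C.im ((As F).map f)).index := by
    intro hdvd
    exact hAsyl (hdvd.trans (Subgroup.index_map_dvd _ C.surj))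
  refine ⟨π (C.j (dg r)), ?_, hindex⟩
  refine
    { Z3 := ?_
      cardZ := ?_
      Zab := ?_
      simple := ?_
      nc := ?_
      DL := ?_
      D3 := ?_
      Dab := ?_
      comm := ?_
      cent := ?_
      hL := ⟨dg r, rfl⟩
      hD := ?_
      wZ := ?_
      wD := ?_
      syl := ⟨C.im ((As F).map f), ?_, hindex, ?_⟩ }
  · intro z hz
    obtain ⟨y, hy, rfl⟩ := C.mem_im.1 hz
    rw [← map_pow]
    have : y ^ 3 = 1 := Subtype.ext (hA3 y (Sw.ZA f hy))
    rw [this, map_one]
  · -- order of `Z`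
    have h1 : Nat.card (C.im ((Zs F).map f)) = 3 ^ m := by
      let φ : F → C.im ((Zs F).map f) := fun v =>
        ⟨π ⟨f (q v 0 0), hAY _ (Sw.ZA f C.sw.mem_Z)⟩, C.mem_im.2 ⟨_, C.sw.mem_Z, rfl⟩⟩
      have hφ : Function.Bijective φ := by
        constructor
        · intro a b hab
          have h2 := congrArg Subtype.val hab
          rcases C.eq_iff h2 with h3 | h3
          · exact congrArg El.z (C.inj h3)
          · exfalso
            have h4 : f (q a 0 0) = f (q b 0 0) * f (ts F) := h3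
            have h5 : (f (q a 0 0)) ^ 3 = f (ts F) := by
              have h6 : Commute (f (q b 0 0)) (f (ts F)) := C.sw.comm_Z C.sw.mem_Z _
              rw [h4, h6.mul_pow, hA3 _ (Sw.ZA f C.sw.mem_Z), one_mul, pow_succ, pow_two, htt, one_mul]
            rw [hA3 _ (Sw.ZA f C.sw.mem_Z)] at h5
            exact ht1 h5.symm
        · rintro ⟨x, hx⟩
          obtain ⟨y, hy, rfl⟩ := C.mem_im.1 hx
          obtain ⟨v, hv⟩ := C.sw.of_mem_Z hy
          refine ⟨v, Subtype.ext ?_⟩
          show π _ = π y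
          congr 1
          exact Subtype.ext hv.symm
      rw [← Nat.card_congr (Equiv.ofBijective φ hφ), Nat.card_eq_fintype_card, hF]
    rw [h1]
    exact pow_dvd_pow 3 hm3
  · intro z hz z' hz'
    obtain ⟨y, hy, rfl⟩ := C.mem_im.1 hz
    obtain ⟨y', hy', rfl⟩ := C.mem_im.1 hz'
    rw [← map_mul, ← map_mul]
    congr 1
    exact Subtype.ext (hAab y (Sw.ZA f hy) y' (Sw.ZA f hy'))
  · -- simple
    have hnt : Nontrivial ((π.comp C.j).range) := by
      refine ⟨⟨⟨_, up 1, rfl⟩, 1, fun h => ?_⟩⟩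
      have h1 : π (C.j (up 1)) = 1 := congrArg Subtype.val h
      rcases (C.ker _).1 h1 with h2 | h2
      · exact (up_ne one_ne_zero C).1 h2
      · exact (up_ne one_ne_zero C).2 h2
    refine { exists_pair_ne := hnt.exists_pair_ne, eq_bot_or_eq_top_of_normal := fun N hN => ?_ }
    have hs : Function.Surjective ((π.comp C.j).rangeRestrict) := MonoidHom.rangeRestrict_surjective _
    rcases sl_normal hcF (N.comap (π.comp C.j).rangeRestrict) (hN.comap _) with h | h
    · right
      rw [eq_top_iff]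
      intro x _
      obtain ⟨A, rfl⟩ := hs x
      have : A ∈ N.comap (π.comp C.j).rangeRestrict := by rw [h]; trivial
      exact this
    · left
      rw [Subgroup.eq_bot_iff_forall]
      intro x hx
      obtain ⟨A, rfl⟩ := hs x
      have h1 : A ∈ N.comap (π.comp C.j).rangeRestrict := hx
      apply Subtype.ext
      show π (C.j A) = 1
      rw [C.ker, C.coe_j]
      rcases sl_center (h h1) with h2 | h2
      · left; rw [h2]; simp
      · right; rw [h2]; rfl
  · -- not commutative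
    refine ⟨_, ⟨dg r, rfl⟩, _, ⟨up 1, rfl⟩, fun h => ?_⟩
    have h1 : π (C.j (dg r * up 1 * (dg r)⁻¹ * (up 1)⁻¹)) = 1 := by
      have h2 : π (C.j (dg r)) * π (C.j (up 1)) = π (C.j (up 1)) * π (C.j (dg r)) := h
      simp only [map_mul, map_inv]
      rw [h2]; group
    rw [dg_up, ← up_neg, ← up_add] at h1
    have h3 : (r : F) * r * 1 + -1 ≠ 0 := fun h => hr (by linear_combination h)
    rcases (C.ker _).1 h1 with h2 | h2
    · exact (up_ne h3 C).1 h2
    · exact (up_ne h3 C).2 h2
  · intro d hd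
    obtain ⟨y, hy, rfl⟩ := C.mem_im.1 hd
    obtain ⟨s, rfl⟩ := hXL y hy
    exact ⟨up s, rfl⟩
  · intro z hz
    obtain ⟨y, hy, rfl⟩ := C.mem_im.1 hz
    rw [← map_pow]
    have : y ^ 3 = 1 := Subtype.ext (hA3 y (Sw.XA f hy))
    rw [this, map_one]
  · intro z hz z' hz'
    obtain ⟨y, hy, rfl⟩ := C.mem_im.1 hz
    obtain ⟨y', hy', rfl⟩ := C.mem_im.1 hz'
    rw [← map_mul, ← map_mul]
    congr 1
    exact Subtype.ext (hAab y (Sw.XA f hy) y' (Sw.XA f hy'))
  · intro z hz l hl
    obtain ⟨y, hy, rfl⟩ := C.mem_im.1 hz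
    obtain ⟨A, rfl⟩ := hl
    exact hjZ y A hy
  · -- the centralizer of `z`
    intro z hz hz1 g hg
    obtain ⟨y, hy, rfl⟩ := C.mem_im.1 hz
    obtain ⟨g, rfl⟩ := C.surj g
    have hy1 : (y : G) ≠ 1 := by
      intro h
      apply hz1
      rw [C.ker]; exact Or.inl h
    rw [← map_mul, ← map_mul] at hg
    have hgy : (g : G) * y = y * g := by
      rcases C.eq_iff hg with h1 | h1
      · exact h1
      · exfalso
        have h2 : (g : G) * y = y * g * f (ts F) := h1
        have h3 : (g : G) * f (ts F) = f (ts F) * g := mem_centralizer_singleton_iff.1 g.2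
        have h4 : (g : G) * y * (g : G)⁻¹ = y * f (ts F) := by
          rw [h2, mul_assoc (y : G), h3]; group
        have h5 : ((g : G) * y * (g : G)⁻¹) ^ 3 = 1 := by
          rw [conj_pow, hA3 _ (Sw.ZA f hy)]; simp
        have h6 : Commute (y : G) (f (ts F)) := C.sw.comm_Z hy _
        rw [h4, h6.mul_pow, hA3 _ (Sw.ZA f hy), one_mul, pow_succ, pow_two, htt, one_mul] at h5
        exact ht1 h5
    obtain ⟨z', hz', A, h7⟩ := C.sw.cent_tz C.two hy hy1 (mem_centralizer_singleton_iff.1 g.2) hgy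
    refine ⟨π ⟨z', hAY _ (Sw.ZA f hz')⟩, C.mem_im.2 ⟨_, hz', rfl⟩, π (C.j A), ⟨A, rfl⟩, ?_⟩
    rw [← map_mul]
    congr 1
    exact Subtype.ext h7
  · intro d hd hd1
    obtain ⟨y, hy, rfl⟩ := C.mem_im.1 hd
    obtain ⟨s, rfl⟩ := hXL y hy
    have hs : s ≠ 0 := by
      rintro rfl
      apply hd1
      rw [up_zero, map_one, map_one]
    have h1 : π (C.j (dg r)) * π (C.j (up s)) * (π (C.j (dg r)))⁻¹ * (π (C.j (up s)))⁻¹ =
        π (C.j (up (((r : F) * r - 1) * s))) := by
      rw [← map_inv, ← map_inv, ← map_mul, ← map_mul, ← map_mul, ← map_inv, ← map_inv, ← map_mul, ← map_mul,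
        ← map_mul, dg_up, ← up_neg, ← up_add]
      congr 3
      ring
    rw [h1]
    have h2 : ((r : F) * r - 1) * s ≠ 0 := mul_ne_zero (fun h => hr (by linear_combination h)) hs
    refine ⟨C.mem_im.2 ⟨_, C.sw.mem_X, rfl⟩, fun h => ?_⟩
    rcases (C.ker _).1 h with h3 | h3
    · exact (up_ne h2 C).1 h3
    · exact (up_ne h2 C).2 h3
  · intro x
    constructor
    · intro hx
      obtain ⟨y, hy, rfl⟩ := C.mem_im.1 hx
      rw [← map_inv, ← map_mul, ← map_mul]
      exact C.mem_im.2 ⟨_, (C.wZ _).1 hy, rfl⟩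
    · intro hx
      obtain ⟨y, hy, h1⟩ := C.mem_im.1 hx
      refine C.mem_im.2 ⟨C.wY⁻¹ * y * C.wY, ?_, ?_⟩
      · rw [C.wZ]
        have : w * ((C.wY⁻¹ * y * C.wY : ↥(centralizer ({f (ts F)} : Set G))) : G) * w⁻¹ = y := by
          show w * (w⁻¹ * y * w) * w⁻¹ = y
          group
        rw [this]; exact hy
      · rw [map_mul, map_mul, map_inv, h1]; group
  · intro x
    constructor
    · intro hx
      obtain ⟨y, hy, rfl⟩ := C.mem_im.1 hx
      rw [← map_inv, ← map_mul, ← map_mul]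
      exact C.mem_im.2 ⟨_, (C.wX _).1 hy, rfl⟩
    · intro hx
      obtain ⟨y, hy, h1⟩ := C.mem_im.1 hx
      refine C.mem_im.2 ⟨C.wY⁻¹ * y * C.wY, ?_, ?_⟩
      · rw [C.wX]
        have : w * ((C.wY⁻¹ * y * C.wY : ↥(centralizer ({f (ts F)} : Set G))) : G) * w⁻¹ = y := by
          show w * (w⁻¹ * y * w) * w⁻¹ = y
          group
        rw [this]; exact hy
      · rw [map_mul, map_mul, map_inv, h1]; group
  · refine isPGroup_of_pow fun x hx => ?_
    obtain ⟨y, hy, rfl⟩ := C.mem_im.1 hx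
    rw [← map_pow]
    have : y ^ 3 = 1 := Subtype.ext (hA3 y hy)
    rw [this, map_one]
  · intro a
    constructor
    · intro ha
      obtain ⟨y, hy, rfl⟩ := C.mem_im.1 ha
      obtain ⟨z, hz, x, hx, h1⟩ := C.sw.dec_A hy
      refine ⟨π ⟨z, hAY _ (Sw.ZA f hz)⟩, C.mem_im.2 ⟨_, hz, rfl⟩, π ⟨x, hAY _ (Sw.XA f hx)⟩,
        C.mem_im.2 ⟨_, hx, rfl⟩, ?_⟩
      rw [← map_mul]
      congr 1
      exact Subtype.ext h1
    · rintro ⟨z, hz, x, hx, rfl⟩
      obtain ⟨y, hy, rfl⟩ := C.mem_im.1 hz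
      obtain ⟨y', hy', rfl⟩ := C.mem_im.1 hx
      rw [← map_mul]
      exact C.mem_im.2 ⟨_, ((As F).map f).mul_mem (Sw.ZA f hy) (Sw.XA f hy'), rfl⟩

end Ctx

end Cfsg.Agent.H334.Sp4
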