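import Cfsg.Agent.H334.Sp4.Swap

/-!
# The working hypothesis `Sw f`

`f : El F →* G` injective, its image the centralizer of the nontrivial elements of `Z = f(Zs F)`; an element `w`
commuting with the involution `t` and interchanging `Z` and `X = f(Xs F)`.
-/

set_option autoImplicit false
set_option linter.unusedSectionVars false
set_option linter.unusedVariables false
set_option linter.unusedSimpArgs false
open Subgroup

namespace Cfsg.Agent.H334.Symp.El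

open Cfsg.Agent.H339 Matrix

variable {F : Type*} [Field F]

/-- the root group of `SL(2,F)` -/
def Xs (F : Type*) [Field F] : Subgroup (El F) where
  carrier := {g | g.z = 0 ∧ g.x = 0 ∧ g.y = 0 ∧ ∃ r, g.A = up r}
  one_mem' := ⟨rfl, rfl, rfl, 0, up_zero.symm⟩
  mul_mem' := by
    rintro a b ⟨h1, h2, h3, r, hr⟩ ⟨h4, h5, h6, s, hs⟩
    refine ⟨?_, ?_, ?_, r + s, by rw [mul_A, hr, hs, up_add]⟩
    · simp [h1, h2, h3, h4, h5, h6]
    · simp [h1, h2, h3, h4, h5, h6]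
    · simp [h1, h2, h3, h4, h5, h6]
  inv_mem' := by
    rintro a ⟨h1, h2, h3, r, hr⟩
    refine ⟨?_, ?_, ?_, -r, by rw [inv_A, hr, up_neg]⟩
    · simp [h1, h2, h3]
    · simp [h1, h2, h3]
    · simp [h1, h2, h3]

/-- `A = Z X` -/
def As (F : Type*) [Field F] : Subgroup (El F) where
  carrier := {g | g.x = 0 ∧ g.y = 0 ∧ ∃ r, g.A = up r}
  one_mem' := ⟨rfl, rfl, 0, up_zero.symm⟩
  mul_mem' := by
    rintro a b ⟨h2, h3, r, hr⟩ ⟨h5, h6, s, hs⟩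
    refine ⟨?_, ?_, r + s, by rw [mul_A, hr, hs, up_add]⟩
    · simp [h2, h3, h5, h6]
    · simp [h2, h3, h5, h6]
  inv_mem' := by
    rintro a ⟨h2, h3, r, hr⟩
    refine ⟨?_, ?_, -r, by rw [inv_A, hr, up_neg]⟩
    · simp [h2, h3]
    · simp [h2, h3]

theorem mem_Xs {g : El F} : g ∈ Xs F ↔ g.z = 0 ∧ g.x = 0 ∧ g.y = 0 ∧ ∃ r, g.A = up r := Iff.rfl
theorem mem_As {g : El F} : g ∈ As F ↔ g.x = 0 ∧ g.y = 0 ∧ ∃ r, g.A = up r := Iff.rfl

theorem mem_Xs' {g : El F} : g ∈ Xs F ↔ ∃ s, g = emb F (up s) := by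
  constructor
  · rintro ⟨h1, h2, h3, r, hr⟩
    exact ⟨r, by ext1 <;> simp [h1, h2, h3, hr]⟩
  · rintro ⟨s, rfl⟩
    exact ⟨rfl, rfl, rfl, s, rfl⟩

theorem mem_Zs' {g : El F} : g ∈ Zs F ↔ ∃ v, g = q v 0 0 := by
  constructor
  · intro h
    obtain ⟨h2, h3, h4⟩ := h
    exact ⟨g.z, by rw [eq_q (mem_Qs.2 h4), h2, h3]; rfl⟩
  · rintro ⟨v, rfl⟩
    exact ⟨rfl, rfl, rfl⟩

theorem Zs_le_As : Zs F ≤ As F := fun g h => ⟨h.1, h.2.1, 0, by rw [up_zero]; exact h.2.2⟩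

theorem Xs_le_As : Xs F ≤ As F := fun g h => ⟨h.2.1, h.2.2.1, h.2.2.2⟩

theorem mem_As' {g : El F} : g ∈ As F ↔ ∃ v s, g = q v 0 0 * emb F (up s) := by
  constructor
  · rintro ⟨h2, h3, r, hr⟩
    refine ⟨g.z, r, ?_⟩
    ext1
    · simp [q]
    · simp [q, h2]
    · simp [q, h3]
    · simp [q, hr]
  · rintro ⟨v, s, rfl⟩
    exact (As F).mul_mem (Zs_le_As (mem_Zs'.2 ⟨v, rfl⟩)) (Xs_le_As (mem_Xs'.2 ⟨s, rfl⟩))

/-- the diagonal matrices -/
def dg (r : Fˣ) : Matrix.SpecialLinearGroup (Fin 2) F := ⟨!![(r : F), 0; 0, (↑r⁻¹ : F)], by simp⟩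

theorem dg00 (r : Fˣ) : (dg r).1 0 0 = (r : F) := rfl
theorem dg01 (r : Fˣ) : (dg r).1 0 1 = 0 := rfl
theorem dg10 (r : Fˣ) : (dg r).1 1 0 = 0 := rfl
theorem dg11 (r : Fˣ) : (dg r).1 1 1 = (↑r⁻¹ : F) := rfl

theorem dg_neg_one : dg (-1 : Fˣ) = (-1 : Matrix.SpecialLinearGroup (Fin 2) F) := by
  apply sl_ext
  · rw [dg00, neg_one_apply]; simp [sl_one00]
  · rw [dg01, neg_one_apply]; simp [sl_one01]
  · rw [dg10, neg_one_apply]; simp [sl_one10]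
  · rw [dg11, neg_one_apply]; simp [sl_one11]

theorem toEl_m (t u v : F) : toEl F ((SpCo.co F).m t u v) = ⟨v, u, 0, up t⟩ := by
  have e : ((SpCo.co F).m t u v : SpCo.Sp F) = SpCo.m t u v := SpCo.co_m t u v
  have e1 : ((SpCo.co F).m t u v : SpCo.Sp F).1 = fromBlocks 1 (SpCo.sy t u v) 0 1 := by rw [e]; rfl
  ext1
  · rw [toEl_z, e1, fromBlocks_apply₁₂]; rfl
  · rw [toEl_x, e1, fromBlocks_apply₁₂]; rfl
  · rw [toEl_y, e1, fromBlocks_apply₂₂]; simp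
  · rw [toEl_A]
    apply sl_ext
    · rw [rho00, e1, fromBlocks_apply₁₁]; simp [up00]
    · rw [rho01, e1, fromBlocks_apply₁₂]; simp [up01, SpCo.sy]
    · rw [rho10, e1, fromBlocks_apply₂₁]; simp [up10]
    · rw [rho11, e1, fromBlocks_apply₂₂]; simp [up11]

theorem toEl_a (s : F) : toEl F ((SpCo.co F).a s) = ⟨0, 0, -s, 1⟩ := by
  have e1 : ((SpCo.co F).a s : SpCo.Sp F).1 = fromBlocks !![1, s; 0, 1] 0 0 !![1, 0; -s, 1] := rfl
  ext1
  · rw [toEl_z, e1, fromBlocks_apply₁₂]; rfl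
  · rw [toEl_x, e1, fromBlocks_apply₁₂]; rfl
  · rw [toEl_y, e1, fromBlocks_apply₂₂]; simp
  · rw [toEl_A]
    apply sl_ext
    · rw [rho00, e1, fromBlocks_apply₁₁]; simp [sl_one00]
    · rw [rho01, e1, fromBlocks_apply₁₂]; simp [sl_one01]
    · rw [rho10, e1, fromBlocks_apply₂₁]; simp [sl_one10]
    · rw [rho11, e1, fromBlocks_apply₂₂]; simp [sl_one11]

theorem toEl_h (r : Fˣ) : toEl F ((SpCo.co F).h r) = emb F (dg r) := by
  have e1 : ((SpCo.co F).h r : SpCo.Sp F).1 = fromBlocks !![1, 0; 0, (r : F)] 0 0 !![1, 0; 0, (↑r⁻¹ : F)] := rfl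
  ext1
  · rw [toEl_z, e1, fromBlocks_apply₁₂]; rfl
  · rw [toEl_x, e1, fromBlocks_apply₁₂]; rfl
  · rw [toEl_y, e1, fromBlocks_apply₂₂]; simp
  · rw [toEl_A]
    apply sl_ext
    · rw [rho00, e1, fromBlocks_apply₁₁]; simp [dg00]
    · rw [rho01, e1, fromBlocks_apply₁₂]; simp [dg01]
    · rw [rho10, e1, fromBlocks_apply₂₁]; simp [dg10]
    · rw [rho11, e1, fromBlocks_apply₂₂]; simp [dg11]

end Cfsg.Agent.H334.Symp.El

namespace Cfsg.Agent.H334.Sp4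

open Cfsg.Agent.H339 Cfsg.Agent.H334.Symp Cfsg.Agent.H334.Symp.El

/-- coordinates in `G` from `f : El F →* G` -/
noncomputable def coG {G F : Type*} [Group G] [Field F] (f : El F →* G) (hf : Function.Injective f) : Co G F :=
  (SpCo.co F).map (f.comp (toEl F)) (hf.comp toEl_injective)

section

variable {G F : Type*} [Group G] [Field F] {f : El F →* G} {hf : Function.Injective f}

theorem coG_m (t u v : F) : (coG f hf).m t u v = f ⟨v, u, 0, up t⟩ := by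
  unfold coG
  rw [Co.map_m, MonoidHom.comp_apply, toEl_m]

theorem coG_a (s : F) : (coG f hf).a s = f ⟨0, 0, -s, 1⟩ := by
  show f (toEl F ((SpCo.co F).a s)) = _
  rw [toEl_a]

theorem coG_h (r : Fˣ) : (coG f hf).h r = f (emb F (dg r)) := by
  show f (toEl F ((SpCo.co F).h r)) = _
  rw [toEl_h]

theorem coG_d (v : F) : (coG f hf).d v = f (q v 0 0) := by
  rw [Co.d_eq, coG_m, up_zero]; rfl

theorem coG_b (t : F) : (coG f hf).b t = f (emb F (up t)) := by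
  rw [Co.b_eq, coG_m]; rfl

theorem coG_M : (coG f hf).M = (Ms F).map f := by
  ext x
  constructor
  · rintro ⟨t, u, v, rfl⟩
    rw [coG_m]
    exact ⟨_, ⟨rfl, t, rfl⟩, rfl⟩
  · rintro ⟨g, ⟨hy, t, ht⟩, rfl⟩
    refine ⟨t, g.x, g.z, ?_⟩
    rw [coG_m]
    congr 1
    ext1 <;> simp [hy, ht]

theorem coG_Z : (coG f hf).Z = (Zs F).map f := by
  ext x
  constructor
  · rintro ⟨v, rfl⟩
    rw [coG_d]
    exact ⟨_, mem_Zs'.2 ⟨v, rfl⟩, rfl⟩
  · rintro ⟨g, hg, rfl⟩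
    obtain ⟨v, rfl⟩ := mem_Zs'.1 hg
    exact ⟨v, by rw [coG_d]⟩

theorem coG_X : (coG f hf).X = (Xs F).map f := by
  ext x
  constructor
  · rintro ⟨v, rfl⟩
    rw [coG_b]
    exact ⟨_, mem_Xs'.2 ⟨v, rfl⟩, rfl⟩
  · rintro ⟨g, hg, rfl⟩
    obtain ⟨v, rfl⟩ := mem_Xs'.1 hg
    exact ⟨v, by rw [coG_b]⟩

theorem coG_D : (coG f hf).D = (As F).map f := by
  ext x
  constructor
  · rintro ⟨t, v, rfl⟩
    rw [coG_m]
    exact ⟨_, ⟨rfl, rfl, t, rfl⟩, rfl⟩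
  · rintro ⟨g, ⟨hx, hy, t, ht⟩, rfl⟩
    refine ⟨t, g.z, ?_⟩
    rw [coG_m]
    congr 1
    ext1 <;> simp [hx, hy, ht]

theorem coG_P : (coG f hf).P = (Ps F).map f := by
  ext x
  constructor
  · rintro ⟨t, u, v, s, rfl⟩
    rw [coG_m, coG_a, ← map_mul]
    exact ⟨_, ⟨t, by simp⟩, rfl⟩
  · rintro ⟨g, ⟨t, ht⟩, rfl⟩
    refine ⟨t, g.x - t * g.y, g.z - g.y * (g.x - t * g.y), -g.y, ?_⟩
    rw [coG_m, coG_a, ← map_mul]
    congr 1
    ext1
    · simp [up00, up01, up10, up11]; ring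
    · simp [up00, up01, up10, up11]
    · simp [up00, up01, up10, up11]
    · simp [ht]

end

end Cfsg.Agent.H334.Sp4
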