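import Mathlib
import Cfsg.Agent.H794.SocleCount
import Cfsg.Agent.Lib.SubnormalJoin
import Cfsg.Agent.H334.Symp.Abs

/-!
# Groups with centralizers of 3-elements of type `Z × L`, and a swap

`X` a finite group with a subgroup `Z × L`, `L` simple, `D` a Sylow 3-subgroup of `L`, `C_X(z) = Z × L` for all
`1 ≠ z ∈ Z`, `Z D` a Sylow 3-subgroup of `X` and `w` interchanging `Z` and `D`. If large elementary abelian
Sylow 3-subgroups occur only in simple groups with abelian centralizers of elements of order 3 (`Star`) then `L` and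
`w L w⁻¹` commute and their product is normal.
-/

set_option autoImplicit false

universe u

open Subgroup

namespace Cfsg.Agent.H334.Sp4

open Cfsg.Agent.H334.Symp

/-- a simple group with elementary abelian Sylow 3-subgroups of order greater than `81` has abelian centralizers of
elements of order 3 (it is `PSL(2, 3^n)`) -/
def Star : Prop := ∀ (K : Type u) [Group K] [Finite K] [IsSimpleGroup K],
  (∀ S : Sylow 3 K, ∀ x ∈ (S : Subgroup K), x ^ 3 = 1 ∧ ∀ y ∈ (S : Subgroup K), x * y = y * x) →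
  (∀ S : Sylow 3 K, 81 < Nat.card S) →
  ∀ z : K, orderOf z = 3 → ∀ g h : K, g * z = z * g → h * z = z * h → g * h = h * g

/-! ### Coordinates on a minimal normal subgroup -/

section Coord

open Cfsg.Agent.H794.SocleCount

variable {G : Type*} [Group G] {N : Subgroup G} {m : ℕ} {T : Fin m → Subgroup G} {e : N ≃* (∀ i, T i)}

theorem Coord.eq_symm (C : Coord N m T e) {i : Fin m} {t : G} (ht : t ∈ T i) :
    (⟨t, C.le i ht⟩ : N) = e.symm (Pi.mulSingle i ⟨t, ht⟩) := Subtype.ext (C.single i ⟨t, ht⟩).symm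

theorem Coord.apply_mem (C : Coord N m T e) {i : Fin m} {t : G} (ht : t ∈ T i) :
    e ⟨t, C.le i ht⟩ = Pi.mulSingle i ⟨t, ht⟩ := by
  rw [Coord.eq_symm C ht, MulEquiv.apply_symm_apply]

/-- the factors are normal in `N`, with control of the coordinates -/
theorem Coord.conj_eq (C : Coord N m T e) {i : Fin m} {n t : G} (hn : n ∈ N) (ht : t ∈ T i) :
    n * t * n⁻¹ = (e ⟨n, hn⟩ i * ⟨t, ht⟩ * (e ⟨n, hn⟩ i)⁻¹ : T i) := by
  rw [← C.single i]
  have h1 : e.symm (Pi.mulSingle i (e ⟨n, hn⟩ i * ⟨t, ht⟩ * (e ⟨n, hn⟩ i)⁻¹)) =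
      (⟨n, hn⟩ : N) * ⟨t, C.le i ht⟩ * (⟨n, hn⟩ : N)⁻¹ := by
    rw [MulEquiv.symm_apply_eq, map_mul, map_mul, map_inv, Coord.apply_mem C ht]
    funext j
    by_cases hj : j = i
    · subst hj
      simp
    · simp [hj]
  rw [h1]
  rfl

theorem Coord.conj_mem (C : Coord N m T e) {i : Fin m} {n t : G} (hn : n ∈ N) (ht : t ∈ T i) :
    n * t * n⁻¹ ∈ T i := by
  rw [Coord.conj_eq C hn ht]
  exact Subtype.mem _

theorem Coord.comm (C : Coord N m T e) {i j : Fin m} (hij : i ≠ j) {a b : G} (ha : a ∈ T i) (hb : b ∈ T j) :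
    a * b = b * a := by
  have h1 := Coord.conj_eq C (C.le i ha) hb
  rw [Coord.apply_mem C ha, Pi.mulSingle_eq_of_ne (Ne.symm hij), one_mul, inv_one, mul_one] at h1
  exact mul_inv_eq_iff_eq_mul.1 h1

/-- the coordinate of an element commuting with `z` commutes with `z` -/
theorem Coord.coord_comm (C : Coord N m T e) {i : Fin m} {n z : G} (hn : n ∈ N) (hz : z ∈ N) (h : n * z = z * n) :
    ((e ⟨n, hn⟩ i : T i) : G) * z = z * ((e ⟨n, hn⟩ i : T i) : G) := by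
  have h1 := Coord.conj_eq C hz (e ⟨n, hn⟩ i).2
  have h2 : e ⟨z, hz⟩ i * e ⟨n, hn⟩ i = e ⟨n, hn⟩ i * e ⟨z, hz⟩ i := by
    have h3 : (⟨z, hz⟩ : N) * ⟨n, hn⟩ = ⟨n, hn⟩ * ⟨z, hz⟩ := Subtype.ext h.symm
    have h4 := congrFun (congrArg e h3) i
    rw [map_mul, map_mul] at h4
    exact h4
  have h3 : e ⟨z, hz⟩ i * ⟨(e ⟨n, hn⟩ i : T i), (e ⟨n, hn⟩ i).2⟩ * (e ⟨z, hz⟩ i)⁻¹ = e ⟨n, hn⟩ i := by
    show e ⟨z, hz⟩ i * e ⟨n, hn⟩ i * (e ⟨z, hz⟩ i)⁻¹ = e ⟨n, hn⟩ i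
    rw [h2, mul_inv_cancel_right]
  rw [h3] at h1
  exact (mul_inv_eq_iff_eq_mul.1 h1).symm

end Coord

structure Twin {X : Type u} [Group X] (Z L D : Subgroup X) (w h : X) : Prop where
  Z3 : ∀ z ∈ Z, z ^ 3 = 1
  cardZ : 27 ∣ Nat.card Z
  Zab : ∀ z ∈ Z, ∀ z' ∈ Z, z * z' = z' * z
  simple : IsSimpleGroup L
  nc : ∃ a ∈ L, ∃ b ∈ L, a * b ≠ b * a
  DL : D ≤ L
  D3 : ∀ d ∈ D, d ^ 3 = 1
  Dab : ∀ z ∈ D, ∀ z' ∈ D, z * z' = z' * z
  comm : ∀ z ∈ Z, ∀ l ∈ L, z * l = l * z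
  cent : ∀ z ∈ Z, z ≠ 1 → ∀ g : X, g * z = z * g → ∃ z' ∈ Z, ∃ l ∈ L, g = z' * l
  hL : h ∈ L
  hD : ∀ d ∈ D, d ≠ 1 → h * d * h⁻¹ * d⁻¹ ∈ D ∧ h * d * h⁻¹ * d⁻¹ ≠ 1
  wZ : ∀ x, x ∈ Z ↔ w * x * w⁻¹ ∈ D
  wD : ∀ x, x ∈ D ↔ w * x * w⁻¹ ∈ Z
  syl : ∃ A : Subgroup X, IsPGroup 3 A ∧ ¬ 3 ∣ A.index ∧ ∀ a, a ∈ A ↔ ∃ z ∈ Z, ∃ d ∈ D, a = z * d

namespace Twin

variable {X : Type u} [Group X] {Z L D : Subgroup X} {w h : X}

theorem eq_one_of_mem (T : Twin Z L D w h) {x : X} (hx : x ∈ L) (hc : ∀ l ∈ L, x * l = l * x) : x = 1 := by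
  have := T.simple
  obtain ⟨a, ha, b, hb, hab⟩ := T.nc
  by_contra hne
  have h1 : center L = ⊤ := by
    have h2 : (center L).Normal := inferInstance
    rcases h2.eq_bot_or_eq_top with h3 | h3
    · exfalso
      apply hne
      have h4 : (⟨x, hx⟩ : L) ∈ center L := by
        rw [mem_center_iff]
        intro g
        exact Subtype.ext (hc g g.2).symm
      rw [h3, mem_bot] at h4
      exact congrArg Subtype.val h4
    · exact h3
  apply hab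
  have h2 : (⟨a, ha⟩ : L) ∈ center L := by rw [h1]; trivial
  exact (congrArg Subtype.val ((mem_center_iff.1 h2) ⟨b, hb⟩)).symm

/-- a subgroup normalised by `L` which contains a nontrivial element of `L` contains `L` -/
theorem L_le (T : Twin Z L D w h) {N : Subgroup X} (hN : ∀ l ∈ L, ∀ n ∈ N, l * n * l⁻¹ ∈ N) {x : X} (hx : x ∈ L)
    (hxN : x ∈ N) (hx1 : x ≠ 1) : L ≤ N := by
  have := T.simple
  have h1 : (N.subgroupOf L).Normal := ⟨fun n hn g => by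
    rw [mem_subgroupOf] at hn ⊢
    exact hN g g.2 _ hn⟩
  rcases h1.eq_bot_or_eq_top with h2 | h2
  · exfalso
    have h3 : (⟨x, hx⟩ : L) ∈ N.subgroupOf L := by rw [mem_subgroupOf]; exact hxN
    rw [h2, mem_bot] at h3
    exact hx1 (congrArg Subtype.val h3)
  · rwa [subgroupOf_eq_top] at h2

theorem inf_eq (T : Twin Z L D w h) {x : X} (hz : x ∈ Z) (hx : x ∈ L) : x = 1 :=
  T.eq_one_of_mem hx fun l hl => T.comm x hz l hl

theorem exists_ne [Finite X] (T : Twin Z L D w h) : ∃ z ∈ Z, z ≠ 1 := by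
  by_contra hcon
  have h1 : Z = ⊥ := by
    rw [Subgroup.eq_bot_iff_forall]
    intro z hz
    by_contra h
    exact hcon ⟨z, hz, h⟩
  have h2 := T.cardZ
  rw [h1, Subgroup.card_bot] at h2
  norm_num at h2

/-- normal 3'-subgroups are trivial -/
theorem eq_bot [Finite X] (T : Twin Z L D w h) {N : Subgroup X} (hN : N.Normal)
    (hc : Nat.Coprime 3 (Nat.card N)) : N = ⊥ := by
  have : Fact (Nat.Prime 3) := ⟨Nat.prime_three⟩
  have h3 : ∀ x ∈ N, x ^ 3 = 1 → x = 1 := by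
    intro x hx hx3
    have h1 : orderOf x ∣ 3 := orderOf_dvd_of_pow_eq_one hx3
    have h2 : orderOf x ∣ Nat.card N := by
      rw [← Subgroup.orderOf_mk x hx]
      exact orderOf_dvd_natCard _
    have h3 : orderOf x ∣ 1 := by
      rw [← (Nat.coprime_iff_gcd_eq_one.1 hc)]
      exact Nat.dvd_gcd h1 h2
    exact orderOf_eq_one_iff.1 (Nat.dvd_one.1 h3)
  have hab : IsMulCommutative Z := ⟨⟨fun a b => Subtype.ext (T.Zab a a.2 b b.2)⟩⟩
  have hcyc : ¬ IsCyclic Z := by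
    intro hc
    obtain ⟨g, hg⟩ := hc.exists_generator
    have h1 : orderOf g = Nat.card Z := orderOf_eq_card_of_forall_mem_zpowers hg
    have h2 : g ^ 3 = 1 := Subtype.ext (by simpa using T.Z3 g g.2)
    have h3 : orderOf g ∣ 3 := orderOf_dvd_of_pow_eq_one h2
    have h4 : 27 ∣ 3 := by
      rw [h1] at h3
      exact T.cardZ.trans h3
    norm_num at h4
  have hcop : (Nat.card Z).Coprime (Nat.card N) := by
    obtain ⟨n, hn⟩ := IsPGroup.iff_card.1 (isPGroup_of_pow T.Z3)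
    rw [hn]
    exact Nat.Coprime.pow_left n hc
  have hnorm : Z ≤ normalizer (N : Set X) := by
    rw [normalizer_eq_top (H := N)]
    exact le_top
  have h1 := Cfsg.Agent.S0058.result Z N hcyc hnorm hcop
  rw [← h1, eq_bot_iff]
  refine iSup₂_le fun a ha => ?_
  intro x hx
  rw [mem_bot]
  have hxa : x * a = a * x := ((mem_centralizer_iff.1 hx.2) a rfl).symm
  obtain ⟨z', hz', l, hl, rfl⟩ := T.cent a ha.1 ha.2 x hxa
  have hl1 : l = 1 := by
    refine T.eq_one_of_mem hl fun l' hl' => ?_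
    by_contra hne
    have h2 : l * l' * l⁻¹ * l'⁻¹ ∈ N := by
      have h3 : l * l' * l⁻¹ * l'⁻¹ = (z' * l) * (l' * (z' * l)⁻¹ * l'⁻¹) := by
        have h4 := T.comm z' hz' (l * l' * l⁻¹ * l'⁻¹) (L.mul_mem (L.mul_mem (L.mul_mem hl hl') (L.inv_mem hl)) (L.inv_mem hl'))
        have h5 := T.comm z' hz' l' hl'
        calc l * l' * l⁻¹ * l'⁻¹ = z'⁻¹ * (z' * (l * l' * l⁻¹ * l'⁻¹)) := by group
          _ = z'⁻¹ * (l * l' * l⁻¹ * l'⁻¹ * z') := by rw [h4]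
          _ = z'⁻¹ * (l * l' * l⁻¹ * (l'⁻¹ * z')) := by group
          _ = z'⁻¹ * (l * l' * l⁻¹ * (z' * l'⁻¹)) := by
            have h6 : l'⁻¹ * z' = z' * l'⁻¹ := (T.comm z' hz' l'⁻¹ (L.inv_mem hl')).symm
            rw [h6]
          _ = z'⁻¹ * (l * l' * (l⁻¹ * z') * l'⁻¹) := by group
          _ = z'⁻¹ * (l * l' * (z' * l⁻¹) * l'⁻¹) := by
            have h6 : l⁻¹ * z' = z' * l⁻¹ := (T.comm z' hz' l⁻¹ (L.inv_mem hl)).symm
            rw [h6]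
          _ = z'⁻¹ * (l * (l' * z') * l⁻¹ * l'⁻¹) := by group
          _ = z'⁻¹ * (l * (z' * l') * l⁻¹ * l'⁻¹) := by rw [h5]
          _ = z'⁻¹ * ((l * z') * l' * l⁻¹ * l'⁻¹) := by group
          _ = z'⁻¹ * ((z' * l) * l' * l⁻¹ * l'⁻¹) := by rw [T.comm z' hz' l hl]
          _ = l * l' * l⁻¹ * l'⁻¹ := by group
          _ = z' * (l * l' * l⁻¹ * l'⁻¹) * z'⁻¹ := by rw [h4]; group
          _ = (z' * l) * l' * (l⁻¹ * l'⁻¹ * z'⁻¹) := by group
          _ = (z' * l) * l' * (z'⁻¹ * (l⁻¹ * l'⁻¹)) := by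
            have h6 : (l' * l) * z' = z' * (l' * l) := (T.comm z' hz' _ (L.mul_mem hl' hl)).symm
            have h7 : l⁻¹ * l'⁻¹ * z'⁻¹ = z'⁻¹ * (l⁻¹ * l'⁻¹) := by
              have h8 := congrArg (fun y => y⁻¹) h6
              simp only [mul_inv_rev] at h8
              exact h8.symm
            rw [h7]
          _ = (z' * l) * (l' * (l * z')⁻¹ * l'⁻¹) := by group
          _ = (z' * l) * (l' * (z' * l)⁻¹ * l'⁻¹) := by rw [T.comm z' hz' l hl]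
      rw [h3]
      exact N.mul_mem hx.1 (hN.conj_mem _ (N.inv_mem hx.1) l')
    have h4 : L ≤ N := by
      refine T.L_le (fun l hl n hn => hN.conj_mem n hn l) (x := l * l' * l⁻¹ * l'⁻¹)
        (L.mul_mem (L.mul_mem (L.mul_mem hl hl') (L.inv_mem hl)) (L.inv_mem hl')) h2 ?_
      intro h5
      apply hne
      rw [mul_inv_eq_one, mul_inv_eq_iff_eq_mul] at h5
      exact h5
    obtain ⟨z, hz, hz1⟩ := T.exists_ne
    have h5 := (T.wZ z).1 hz
    have h6 := h3 _ (h4 (T.DL h5)) (T.D3 _ h5)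
    apply hz1
    calc z = w⁻¹ * (w * z * w⁻¹) * w := by group
      _ = 1 := by rw [h6]; group
  subst hl1
  rw [mul_one] at hx ⊢
  exact h3 _ hx.1 (T.Z3 _ hz')

/-- nontrivial normal subgroups contain `L` and `Z` -/
theorem le_normal [Finite X] (T : Twin Z L D w h) {N : Subgroup X} (hN : N.Normal) (hne : N ≠ ⊥) : L ≤ N ∧ Z ≤ N := by
  have : Fact (Nat.Prime 3) := ⟨Nat.prime_three⟩
  have key : ∀ d ∈ D, d ≠ 1 → d ∈ N → L ≤ N ∧ Z ≤ N := by
    intro d hd hd1 hdN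
    have h1 : L ≤ N := T.L_le (fun l _ n hn => hN.conj_mem n hn l) (T.DL hd) hdN hd1
    refine ⟨h1, fun z hz => ?_⟩
    have h2 : w * z * w⁻¹ ∈ N := h1 (T.DL ((T.wZ z).1 hz))
    have h3 := hN.conj_mem _ h2 w⁻¹
    have h4 : w⁻¹ * (w * z * w⁻¹) * w⁻¹⁻¹ = z := by group
    rwa [h4] at h3
  obtain ⟨A, hA3, hAi, hA⟩ := T.syl
  have hdvd : 3 ∣ Nat.card N := by
    by_contra hcon
    exact hne (T.eq_bot hN ((Nat.Prime.coprime_iff_not_dvd Nat.prime_three).2 hcon))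
  -- `A ∩ N ≠ 1`
  obtain ⟨x, hx⟩ := exists_prime_orderOf_dvd_card' 3 hdvd
  have hx3 : (x : X) ^ 3 = 1 := by
    have := pow_orderOf_eq_one x
    rw [hx] at this
    simpa using congrArg Subtype.val this
  have hx1 : (x : X) ≠ 1 := by
    intro h1
    have h2 : x = 1 := Subtype.ext h1
    rw [h2, orderOf_one] at hx
    norm_num at hx
  have hT : IsPGroup 3 (zpowers (x : X)) := by
    refine isPGroup_of_pow fun y hy => ?_
    obtain ⟨k, rfl⟩ := mem_zpowers_iff.1 hy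
    rw [← zpow_natCast, ← zpow_mul, mul_comm, zpow_mul, zpow_natCast, hx3, one_zpow]
  obtain ⟨g, -, hg⟩ := exists_conj_le (C := ⊤) hA3 (by rwa [relIndex_top_right]) le_top hT
  have hg1 := hg x (mem_zpowers _)
  have hg2 : g * (x : X) * g⁻¹ ∈ N := hN.conj_mem _ x.2 g
  have hg3 : g * (x : X) * g⁻¹ ≠ 1 := by
    intro h1
    apply hx1
    calc (x : X) = g⁻¹ * (g * x * g⁻¹) * g := by group
      _ = 1 := by rw [h1]; group
  obtain ⟨z, hz, d, hd, hzd⟩ := (hA _).1 hg1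
  by_cases hd1 : d = 1
  · subst hd1
    rw [mul_one] at hzd
    have hz1 : z ≠ 1 := by rw [← hzd]; exact hg3
    have h1 : w * z * w⁻¹ ∈ N := hN.conj_mem _ (by rw [← hzd]; exact hg2) w
    refine key _ ((T.wZ z).1 hz) ?_ h1
    intro h2
    apply hz1
    calc z = w⁻¹ * (w * z * w⁻¹) * w := by group
      _ = 1 := by rw [h2]; group
  · obtain ⟨h1, h2⟩ := T.hD d hd hd1
    refine key _ h1 h2 ?_
    have h3 : h * d * h⁻¹ * d⁻¹ = h * (z * d) * h⁻¹ * (z * d)⁻¹ := by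
      have h4 := T.comm z hz h T.hL
      calc h * d * h⁻¹ * d⁻¹ = h * (z⁻¹ * (z * d)) * h⁻¹ * d⁻¹ := by group
        _ = (h * z⁻¹) * (z * d) * h⁻¹ * d⁻¹ := by group
        _ = (z⁻¹ * h) * (z * d) * h⁻¹ * d⁻¹ := by
          have h5 : h * z⁻¹ = z⁻¹ * h := by rw [eq_inv_mul_iff_mul_eq, ← mul_assoc, h4]; group
          rw [h5]
        _ = z⁻¹ * (h * (z * d) * h⁻¹ * d⁻¹) := by group
        _ = z⁻¹ * (h * (d * z) * h⁻¹ * d⁻¹) := by rw [T.comm z hz d (T.DL hd)]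
        _ = z⁻¹ * (h * d * (z * h⁻¹) * d⁻¹) := by group
        _ = z⁻¹ * (h * d * (h⁻¹ * z) * d⁻¹) := by
          have h5 : z * h⁻¹ = h⁻¹ * z := T.comm z hz _ (L.inv_mem T.hL)
          rw [h5]
        _ = z⁻¹ * (h * d * h⁻¹ * (z * d⁻¹)) := by group
        _ = z⁻¹ * (h * d * h⁻¹ * (d⁻¹ * z)) := by
          have h5 : z * d⁻¹ = d⁻¹ * z := T.comm z hz _ (L.inv_mem (T.DL hd))
          rw [h5]
        _ = z⁻¹ * (h * d * h⁻¹ * d⁻¹ * z) := by group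
        _ = z⁻¹ * (z * (h * d * h⁻¹ * d⁻¹)) := by
          rw [T.comm z hz (h * d * h⁻¹ * d⁻¹) (T.DL h1)]
        _ = h * d * h⁻¹ * d⁻¹ := by group
        _ = z * (h * d * h⁻¹ * d⁻¹) * z⁻¹ := by rw [T.comm z hz (h * d * h⁻¹ * d⁻¹) (T.DL h1)]; group
        _ = (z * h) * d * h⁻¹ * (d⁻¹ * z⁻¹) := by group
        _ = (h * z) * d * h⁻¹ * (z * d)⁻¹ := by rw [h4]; group
        _ = h * (z * d) * h⁻¹ * (z * d)⁻¹ := by group
    rw [h3, ← hzd]
    exact N.mul_mem (hN.conj_mem _ hg2 h) (N.inv_mem hg2)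

theorem main [Finite X] (T : Twin Z L D w h) (hS : Star.{u}) :
    (∀ a ∈ L, ∀ b ∈ L, a * (w * b * w⁻¹) = (w * b * w⁻¹) * a) ∧
    ∃ N : Subgroup X, N.Normal ∧ ∀ x, x ∈ N ↔ ∃ a ∈ L, ∃ b ∈ L, x = a * (w * b * w⁻¹) := by
  have : Fact (Nat.Prime 3) := ⟨Nat.prime_three⟩
  obtain ⟨z₀, hz₀, hz₀1⟩ := T.exists_ne
  have : Nontrivial X := ⟨⟨z₀, 1, hz₀1⟩⟩
  obtain ⟨N, hN, hNb, hmin⟩ := Cfsg.Agent.Lib.SubnormalJoin.exists_minimal_normal X
  obtain ⟨hLN, hZN⟩ := T.le_normal hN hNb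
  obtain ⟨a₀, ha₀, b₀, hb₀, hab₀⟩ := T.nc
  obtain ⟨m, TT, e, C⟩ := Cfsg.Agent.H794.SocleCount.exists_coord N hmin
    (fun hcon => hab₀ (hcon a₀ (hLN ha₀) b₀ (hLN hb₀)))
  -- factors centralising `Z`
  have lemA : ∀ i, (∀ z ∈ Z, ∀ a ∈ TT i, a * z = z * a) → TT i = L := by
    intro i hi
    have hsi := C.simple i
    obtain ⟨a, b, hab⟩ := C.nc i
    have hcen : ∀ x ∈ TT i, ∃ z' ∈ Z, ∃ l ∈ L, x = z' * l := fun x hx => T.cent z₀ hz₀ hz₀1 x (hi z₀ hz₀ x hx)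
    -- elements of `Z L` normalise `L`
    have hnL : ∀ x ∈ TT i, ∀ l ∈ L, x * l * x⁻¹ ∈ L := by
      intro x hx l hl
      obtain ⟨z', hz', l', hl', rfl⟩ := hcen x hx
      have h1 : z' * l' * l * (z' * l')⁻¹ = l' * l * l'⁻¹ := by
        have h2 := T.comm z' hz' (l' * l * l'⁻¹) (L.mul_mem (L.mul_mem hl' hl) (L.inv_mem hl'))
        calc z' * l' * l * (z' * l')⁻¹ = z' * (l' * l * l'⁻¹) * z'⁻¹ := by group
          _ = l' * l * l'⁻¹ := by rw [h2]; group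
      rw [h1]
      exact L.mul_mem (L.mul_mem hl' hl) (L.inv_mem hl')
    -- the commutator of `a` and `b` is in `L`
    have hc : (a : X) * b * (a : X)⁻¹ * (b : X)⁻¹ ∈ L := by
      obtain ⟨z₁, hz₁, l₁, hl₁, e₁⟩ := hcen a a.2
      obtain ⟨z₂, hz₂, l₂, hl₂, e₂⟩ := hcen b b.2
      have h1 : (a : X) * b * (a : X)⁻¹ * (b : X)⁻¹ = l₁ * l₂ * l₁⁻¹ * l₂⁻¹ := by
        rw [e₁, e₂]
        have k1 := T.comm z₁ hz₁ l₁ hl₁
        have k2 := T.comm z₂ hz₂ l₂ hl₂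
        have k3 := T.comm z₁ hz₁ l₂ hl₂
        have k4 := T.comm z₂ hz₂ l₁ hl₁
        have k5 := T.Zab z₁ hz₁ z₂ hz₂
        have k6 := T.comm z₁ hz₁ (l₁ * l₂ * l₁⁻¹) (L.mul_mem (L.mul_mem hl₁ hl₂) (L.inv_mem hl₁))
        have k7 := T.comm z₂ hz₂ (l₁ * l₂ * l₁⁻¹) (L.mul_mem (L.mul_mem hl₁ hl₂) (L.inv_mem hl₁))
        calc z₁ * l₁ * (z₂ * l₂) * (z₁ * l₁)⁻¹ * (z₂ * l₂)⁻¹
            = z₁ * (l₁ * z₂) * l₂ * l₁⁻¹ * z₁⁻¹ * l₂⁻¹ * z₂⁻¹ := by group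
          _ = z₁ * (z₂ * l₁) * l₂ * l₁⁻¹ * z₁⁻¹ * l₂⁻¹ * z₂⁻¹ := by rw [k4]
          _ = z₁ * (z₂ * (l₁ * l₂ * l₁⁻¹)) * z₁⁻¹ * l₂⁻¹ * z₂⁻¹ := by group
          _ = z₁ * ((l₁ * l₂ * l₁⁻¹) * z₂) * z₁⁻¹ * l₂⁻¹ * z₂⁻¹ := by rw [k7]
          _ = (z₁ * (l₁ * l₂ * l₁⁻¹)) * z₂ * z₁⁻¹ * l₂⁻¹ * z₂⁻¹ := by group
          _ = ((l₁ * l₂ * l₁⁻¹) * z₁) * z₂ * z₁⁻¹ * l₂⁻¹ * z₂⁻¹ := by rw [k6]
          _ = (l₁ * l₂ * l₁⁻¹) * (z₁ * z₂) * z₁⁻¹ * l₂⁻¹ * z₂⁻¹ := by group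
          _ = (l₁ * l₂ * l₁⁻¹) * (z₂ * z₁) * z₁⁻¹ * l₂⁻¹ * z₂⁻¹ := by rw [k5]
          _ = (l₁ * l₂ * l₁⁻¹) * (z₂ * l₂⁻¹) * z₂⁻¹ := by group
          _ = (l₁ * l₂ * l₁⁻¹) * (l₂⁻¹ * z₂) * z₂⁻¹ := by rw [T.comm z₂ hz₂ l₂⁻¹ (L.inv_mem hl₂)]
          _ = l₁ * l₂ * l₁⁻¹ * l₂⁻¹ := by group
      rw [h1]
      exact L.mul_mem (L.mul_mem (L.mul_mem hl₁ hl₂) (L.inv_mem hl₁)) (L.inv_mem hl₂)
    have hc1 : (a : X) * b * (a : X)⁻¹ * (b : X)⁻¹ ≠ 1 := by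
      intro h1
      apply hab
      rw [mul_inv_eq_one, mul_inv_eq_iff_eq_mul] at h1
      exact Subtype.ext h1
    have hcT : (a : X) * b * (a : X)⁻¹ * (b : X)⁻¹ ∈ TT i :=
      (TT i).mul_mem ((TT i).mul_mem ((TT i).mul_mem a.2 b.2) ((TT i).inv_mem a.2)) ((TT i).inv_mem b.2)
    apply le_antisymm
    · have h1 : (L.subgroupOf (TT i)).Normal := ⟨fun n hn g => by
        rw [mem_subgroupOf] at hn ⊢
        exact hnL g g.2 _ hn⟩
      rcases h1.eq_bot_or_eq_top with h2 | h2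
      · exfalso
        have h3 : (⟨_, hcT⟩ : TT i) ∈ L.subgroupOf (TT i) := by rw [mem_subgroupOf]; exact hc
        rw [h2, mem_bot] at h3
        exact hc1 (congrArg Subtype.val h3)
      · rwa [subgroupOf_eq_top] at h2
    · exact T.L_le (fun l hl n hn => Coord.conj_mem C (hLN hl) hn) hc hcT hc1
  -- `L` is in a factor
  have lemB : ∃ i, L ≤ TT i := by
    have h0 : a₀ * b₀ * a₀⁻¹ * b₀⁻¹ ≠ 1 := by
      intro h1
      apply hab₀
      rw [mul_inv_eq_one, mul_inv_eq_iff_eq_mul] at h1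
      exact h1
    have h1 : ∃ i, (e ⟨a₀, hLN ha₀⟩ i) * (e ⟨b₀, hLN hb₀⟩ i) ≠ (e ⟨b₀, hLN hb₀⟩ i) * (e ⟨a₀, hLN ha₀⟩ i) := by
      by_contra hcon
      push Not at hcon
      apply hab₀
      have h2 : e (⟨a₀, hLN ha₀⟩ * ⟨b₀, hLN hb₀⟩) = e (⟨b₀, hLN hb₀⟩ * ⟨a₀, hLN ha₀⟩) := by
        rw [map_mul, map_mul]
        funext i
        exact hcon i
      exact congrArg Subtype.val (e.injective h2)
    obtain ⟨i, hi⟩ := h1
    refine ⟨i, ?_⟩
    set c : X := ((e ⟨a₀, hLN ha₀⟩ i : TT i) : X) with hc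
    have hcT : c ∈ TT i := (e ⟨a₀, hLN ha₀⟩ i).2
    have hcz : c * z₀ = z₀ * c := Coord.coord_comm C (hLN ha₀) (hZN hz₀) (T.comm z₀ hz₀ a₀ ha₀).symm
    obtain ⟨z', hz', l₁, hl₁, e₁⟩ := T.cent z₀ hz₀ hz₀1 c hcz
    -- `[c, b₀]`
    have h2 : c * b₀ * c⁻¹ * b₀⁻¹ = l₁ * b₀ * l₁⁻¹ * b₀⁻¹ := by
      rw [e₁]
      have k := T.comm z' hz' (l₁ * b₀ * l₁⁻¹) (L.mul_mem (L.mul_mem hl₁ hb₀) (L.inv_mem hl₁))
      calc z' * l₁ * b₀ * (z' * l₁)⁻¹ * b₀⁻¹ = z' * (l₁ * b₀ * l₁⁻¹) * z'⁻¹ * b₀⁻¹ := by group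
        _ = l₁ * b₀ * l₁⁻¹ * b₀⁻¹ := by rw [k]; group
    have h3 : c * b₀ * c⁻¹ * b₀⁻¹ ∈ L := by
      rw [h2]
      exact L.mul_mem (L.mul_mem (L.mul_mem hl₁ hb₀) (L.inv_mem hl₁)) (L.inv_mem hb₀)
    have h4 : b₀ * c⁻¹ * b₀⁻¹ ∈ TT i := Coord.conj_mem C (hLN hb₀) ((TT i).inv_mem hcT)
    have h5 : c * b₀ * c⁻¹ * b₀⁻¹ ∈ TT i := by
      have : c * b₀ * c⁻¹ * b₀⁻¹ = c * (b₀ * c⁻¹ * b₀⁻¹) := by group
      rw [this]
      exact (TT i).mul_mem hcT h4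
    refine T.L_le (fun l hl n hn => Coord.conj_mem C (hLN hl) hn) h3 h5 ?_
    intro h6
    apply hi
    have h7 : b₀ * c * b₀⁻¹ = c := by
      rw [mul_inv_eq_one, mul_inv_eq_iff_eq_mul] at h6
      rw [← h6]; group
    have h8 := Coord.conj_eq C (hLN hb₀) hcT
    rw [h7] at h8
    have h9 : (⟨c, hcT⟩ : TT i) = e ⟨a₀, hLN ha₀⟩ i := rfl
    rw [h9] at h8
    have h10 := Subtype.ext h8
    rw [eq_mul_inv_iff_mul_eq] at h10
    exact h10
  obtain ⟨i, hi⟩ := lemB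
  obtain ⟨j, hj⟩ := C.conj w i
  have hLj : ∀ b ∈ L, w * b * w⁻¹ ∈ TT j := by
    intro b hb
    rw [hj]
    exact ⟨b, hi hb, rfl⟩
  have hZj : Z ≤ TT j := by
    intro z hz
    have h1 : w⁻¹ * z * w ∈ D := by
      rw [T.wD]
      have : w * (w⁻¹ * z * w) * w⁻¹ = z := by group
      rwa [this]
    have h2 := hLj _ (T.DL h1)
    have : w * (w⁻¹ * z * w) * w⁻¹ = z := by group
    rwa [this] at h2
  have hother : ∀ k, k ≠ j → TT k = L := fun k hk =>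
    lemA k fun z hz a ha => Coord.comm C hk ha (hZj hz)
  by_cases hij : i = j
  · -- `N = TT i` is simple
    exfalso
    subst hij
    have honly : ∀ k, k = i := by
      intro k
      by_contra hk
      have h1 := hother k hk
      exact hk (C.disj (x := a₀) (by rw [h1]; exact ha₀) (hi ha₀) (by
        rintro rfl
        apply hab₀
        simp))
    have hsi := C.simple i
    obtain ⟨A, hA3, hAi, hA⟩ := T.syl
    have hAT : A ≤ TT i := by
      intro a ha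
      obtain ⟨z, hz, d, hd, rfl⟩ := (hA a).1 ha
      exact (TT i).mul_mem (hZj hz) (hi (T.DL hd))
    have hAc : ∀ a ∈ A, a ^ 3 = 1 ∧ ∀ b ∈ A, a * b = b * a := by
      intro a ha
      obtain ⟨z, hz, d, hd, rfl⟩ := (hA a).1 ha
      constructor
      · rw [(show Commute z d from T.comm z hz d (T.DL hd)).mul_pow, T.Z3 z hz, T.D3 d hd, one_mul]
      · intro b hb
        obtain ⟨z', hz', d', hd', rfl⟩ := (hA b).1 hb
        have k1 := T.comm z hz d' (T.DL hd')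
        have k2 := T.comm z' hz' d (T.DL hd)
        calc z * d * (z' * d') = z * (d * z') * d' := by group
          _ = z * (z' * d) * d' := by rw [k2]
          _ = (z * z') * (d * d') := by group
          _ = (z' * z) * (d' * d) := by rw [T.Zab z hz z' hz', T.Dab d hd d' hd']
          _ = z' * (z * d') * d := by group
          _ = z' * (d' * z) * d := by rw [k1]
          _ = z' * d' * (z * d) := by group
    have hcard : 81 < Nat.card A := by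
      have hZc : 27 ≤ Nat.card Z := Nat.le_of_dvd Nat.card_pos T.cardZ
      have hDc : Nat.card D = Nat.card Z := by
        refine Nat.card_congr ⟨fun x => ⟨w * x * w⁻¹, (T.wD x).1 x.2⟩, fun y => ⟨w⁻¹ * y * w, ?_⟩, ?_, ?_⟩
        · rw [T.wD]
          have : w * (w⁻¹ * (y : X) * w) * w⁻¹ = y := by group
          rw [this]; exact y.2
        · intro x
          apply Subtype.ext
          show w⁻¹ * (w * (x : X) * w⁻¹) * w = x
          group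
        · intro x
          apply Subtype.ext
          show w * (w⁻¹ * (x : X) * w) * w⁻¹ = x
          group
      let f : Z × D → A := fun x => ⟨x.1 * x.2, (hA _).2 ⟨x.1, x.1.2, x.2, x.2.2, rfl⟩⟩
      have hf : Function.Injective f := by
        rintro ⟨x, y⟩ ⟨x', y'⟩ hxy
        have e1 : (x : X) * y = x' * y' := congrArg Subtype.val hxy
        have e2 : (x' : X)⁻¹ * x = y' * (y : X)⁻¹ := by
          rw [inv_mul_eq_iff_eq_mul, ← mul_assoc, ← e1]; group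
        have e3 : (x' : X)⁻¹ * x = 1 :=
          T.inf_eq (Z.mul_mem (Z.inv_mem x'.2) x.2) (by rw [e2]; exact L.mul_mem (T.DL y'.2) (L.inv_mem (T.DL y.2)))
        have e4 : x = x' := Subtype.ext (inv_mul_eq_one.1 e3).symm
        rw [e3] at e2
        have e5 : y = y' := Subtype.ext (mul_inv_eq_one.1 e2.symm).symm
        rw [e4, e5]
      have h1 := Nat.card_le_card_of_injective f hf
      rw [Nat.card_prod, hDc] at h1
      have h2 : 27 * 27 ≤ Nat.card Z * Nat.card Z := Nat.mul_le_mul hZc hZc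
      omega
    have key := hS (TT i) ?_ ?_ ⟨z₀, hZj hz₀⟩ ?_ ⟨a₀, hi ha₀⟩ ⟨b₀, hi hb₀⟩ ?_ ?_
    · exact hab₀ (congrArg Subtype.val key)
    · intro S x hx
      obtain ⟨g, -, hg⟩ := exists_conj_le (C := ⊤) hA3 (by rwa [relIndex_top_right]) le_top
        (S.isPGroup'.map (TT i).subtype)
      have hg' : ∀ y ∈ (S : Subgroup (TT i)), g * (y : X) * g⁻¹ ∈ A := fun y hy => hg y ⟨y, hy, rfl⟩
      have h1 := hAc _ (hg' x hx)
      constructor
      · apply Subtype.ext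
        have h2 := h1.1
        rw [conj_pow] at h2
        show (x : X) ^ 3 = 1
        calc (x : X) ^ 3 = g⁻¹ * (g * (x : X) ^ 3 * g⁻¹) * g := by group
          _ = 1 := by rw [h2]; group
      · intro y hy
        apply Subtype.ext
        have h2 := h1.2 _ (hg' y hy)
        show (x : X) * y = y * x
        calc (x : X) * y = g⁻¹ * (g * x * g⁻¹ * (g * y * g⁻¹)) * g := by group
          _ = g⁻¹ * (g * y * g⁻¹ * (g * x * g⁻¹)) * g := by rw [h2]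
          _ = y * x := by group
    · intro S
      have hAT3 : IsPGroup 3 (A.subgroupOf (TT i)) := hA3.comap_of_injective _ (TT i).subtype_injective
      obtain ⟨S', hS'⟩ := hAT3.exists_le_sylow
      have h1 : Nat.card S = Nat.card S' := Nat.card_congr (Sylow.equiv S S').toEquiv
      have h2 : Nat.card (A.subgroupOf (TT i)) = Nat.card A := Nat.card_congr (subgroupOfEquivOfLe hAT).toEquiv
      have h3 : Nat.card (A.subgroupOf (TT i)) ≤ Nat.card S' := Subgroup.card_le_of_le hS'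
      rw [h1]
      omega
    · rw [Subgroup.orderOf_mk]
      exact orderOf_eq_prime (T.Z3 z₀ hz₀) hz₀1
    · exact Subtype.ext (T.comm z₀ hz₀ a₀ ha₀).symm
    · exact Subtype.ext (T.comm z₀ hz₀ b₀ hb₀).symm
  · have hTi : TT i = L := hother i hij
    have hkij : ∀ k, k = i ∨ k = j := by
      intro k
      by_contra hcon
      push Not at hcon
      exact hcon.1 (C.inj ((hother k hcon.2).trans hTi.symm))
    have hTj : ∀ x ∈ TT j, ∃ b ∈ L, x = w * b * w⁻¹ := by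
      intro x hx
      rw [hj, hTi] at hx
      obtain ⟨b, hb, rfl⟩ := hx
      exact ⟨b, hb, rfl⟩
    refine ⟨fun a ha b hb => Coord.comm C hij (hi ha) (hLj b hb), N, hN, fun x => ⟨fun hx => ?_, ?_⟩⟩
    · have h1 : (⟨x, hx⟩ : N) = e.symm (Pi.mulSingle i (e ⟨x, hx⟩ i)) * e.symm (Pi.mulSingle j (e ⟨x, hx⟩ j)) := by
        apply e.injective
        rw [map_mul, MulEquiv.apply_symm_apply, MulEquiv.apply_symm_apply]
        funext k
        rw [Pi.mul_apply]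
        rcases hkij k with rfl | rfl
        · rw [Pi.mulSingle_eq_same, Pi.mulSingle_eq_of_ne hij, mul_one]
        · rw [Pi.mulSingle_eq_same, Pi.mulSingle_eq_of_ne (Ne.symm hij), one_mul]
      have h2 := congrArg Subtype.val h1
      rw [Subgroup.coe_mul, C.single, C.single] at h2
      obtain ⟨b, hb, hb'⟩ := hTj _ (e ⟨x, hx⟩ j).2
      refine ⟨_, by rw [← hTi]; exact (e ⟨x, hx⟩ i).2, b, hb, ?_⟩
      rw [← hb']
      exact h2
    · rintro ⟨a, ha, b, hb, rfl⟩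
      exact N.mul_mem (hLN ha) (C.le j (hLj b hb))

end Twin

end Cfsg.Agent.H334.Sp4
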