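import Cfsg.Agent.H334.Sp4.SwOf
import Cfsg.Agent.H334.Sp4.Twin
import Cfsg.Agent.SignalizersComponents.RelSylow

/-!
# The centralizer of the involution `t`
-/

set_option autoImplicit false
set_option linter.unusedSectionVars false
set_option linter.unusedVariables false
set_option linter.unusedSimpArgs false

universe u v

open Subgroup

namespace Cfsg.Agent.H334.Sp4

open Cfsg.Agent.H339 Cfsg.Agent.H334.Symp Cfsg.Agent.H334.Symp.El

namespace Sw

variable {G : Type u} {F : Type v} [Group G] [Field F] {f : El F →* G}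

theorem mem_Z (S : Sw f) {v : F} : f (q v 0 0) ∈ (Zs F).map f := ⟨_, mem_Zs'.2 ⟨v, rfl⟩, rfl⟩

theorem mem_X (S : Sw f) {s : F} : f (emb F (up s)) ∈ (Xs F).map f := ⟨_, mem_Xs'.2 ⟨s, rfl⟩, rfl⟩

theorem of_mem_Z (S : Sw f) {x : G} (hx : x ∈ (Zs F).map f) : ∃ v, x = f (q v 0 0) := by
  obtain ⟨k, hk, rfl⟩ := hx
  obtain ⟨v, rfl⟩ := mem_Zs'.1 hk
  exact ⟨v, rfl⟩

theorem of_mem_X (S : Sw f) {x : G} (hx : x ∈ (Xs F).map f) : ∃ s, x = f (emb F (up s)) := by
  obtain ⟨k, hk, rfl⟩ := hx
  obtain ⟨v, rfl⟩ := mem_Xs'.1 hk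
  exact ⟨v, rfl⟩

theorem inf_eq (S : Sw f) {x : G} (hz : x ∈ (Zs F).map f) (hx : x ∈ (Xs F).map f) : x = 1 := by
  obtain ⟨v, rfl⟩ := S.of_mem_Z hz
  obtain ⟨s, hs⟩ := S.of_mem_X hx
  have h1 := congrArg El.z (S.inj hs)
  have h2 : v = 0 := h1
  rw [h2, q_zero, map_one]

theorem comm_Z (S : Sw f) {z : G} (hz : z ∈ (Zs F).map f) (k : El F) : z * f k = f k * z := by
  obtain ⟨k', hk', rfl⟩ := hz
  rw [← map_mul, ← map_mul, comm_of_Zs hk' k]

theorem cent_tz (S : Sw f) (h2F : (2 : F) ≠ 0) {z g : G} (hz : z ∈ (Zs F).map f) (hz1 : z ≠ 1)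
    (hgt : g * f (ts F) = f (ts F) * g) (hgz : g * z = z * g) :
    ∃ z' ∈ (Zs F).map f, ∃ A, g = z' * f (emb F A) := by
  obtain ⟨v, rfl⟩ := S.of_mem_Z hz
  have hv : v ≠ 0 := by
    rintro rfl
    exact hz1 (by rw [q_zero, map_one])
  obtain ⟨k, rfl⟩ := S.cent v hv g hgz
  rw [← map_mul, ← map_mul] at hgt
  obtain ⟨h1, h2⟩ := (ts_comm_iff h2F).1 (S.inj hgt)
  refine ⟨_, S.mem_Z (v := k.z), k.A, ?_⟩
  rw [← map_mul]
  congr 1
  ext1
  · simp [q]
  · simp [q, h1]
  · simp [q, h2]
  · simp [q]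

theorem t_comm (S : Sw f) (h2F : (2 : F) ≠ 0) (A : Matrix.SpecialLinearGroup (Fin 2) F) :
    f (emb F A) * f (ts F) = f (ts F) * f (emb F A) := by
  rw [← map_mul, ← map_mul, (ts_comm_iff h2F).2 ⟨rfl, rfl⟩]

theorem tA (S : Sw f) (h2F : (2 : F) ≠ 0) {a : G} (ha : a ∈ (As F).map f) : a * f (ts F) = f (ts F) * a := by
  obtain ⟨k, hk, rfl⟩ := ha
  rw [← map_mul, ← map_mul, (ts_comm_iff h2F).2 ⟨hk.1, hk.2.1⟩]

theorem dec_A (S : Sw f) {a : G} (ha : a ∈ (As F).map f) : ∃ z ∈ (Zs F).map f, ∃ x ∈ (Xs F).map f, a = z * x := by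
  obtain ⟨k, hk, rfl⟩ := ha
  obtain ⟨v, s, rfl⟩ := mem_As'.1 hk
  exact ⟨_, S.mem_Z, _, S.mem_X, map_mul _ _ _⟩

theorem ZA (f : El F →* G) : (Zs F).map f ≤ (As F).map f := map_mono Zs_le_As
theorem XA (f : El F →* G) : (Xs F).map f ≤ (As F).map f := map_mono Xs_le_As

/-- 3-elements of `C_G(t)` normalising `A` are in `A` -/
theorem mem_A (S : Sw f) [Finite F] (h2F : (2 : F) ≠ 0) (h3 : (3 : F) = 0) {x : G} (hxt : x * f (ts F) = f (ts F) * x)
    (hxA : ∀ a ∈ (As F).map f, x * a * x⁻¹ ∈ (As F).map f) {n : ℕ} (hx : x ^ 3 ^ n = 1) : x ∈ (As F).map f := by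
  have h3p : Fact (Nat.Prime 3) := ⟨Nat.prime_three⟩
  obtain ⟨w, hwt, hwZ, hwX⟩ := S.swap
  have hwA : ∀ a ∈ (As F).map f, w * a * w⁻¹ ∈ (As F).map f := by
    intro a ha
    obtain ⟨z, hz, y, hy, rfl⟩ := S.dec_A ha
    have : w * (z * y) * w⁻¹ = (w * z * w⁻¹) * (w * y * w⁻¹) := by group
    rw [this]
    exact ((As F).map f).mul_mem (XA f ((hwZ z).1 hz)) (ZA f ((hwX y).1 hy))
  have hZ1 : f (q 1 0 0) ∈ (Zs F).map f := S.mem_Z
  have hZ1' : f (q 1 0 0) ≠ 1 := by
    intro h
    rw [← map_one f] at h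
    exact one_ne_zero (congrArg El.z (S.inj h))
  have hfix : ∀ y ∈ (Zs F).map f, x * y * x⁻¹ ∈ (Zs F).map f := by
    rcases S.nm x hxt hxA with h | h
    · exact h
    · exfalso
      -- `x` interchanges `Z` and `X`
      have hX : ∀ y ∈ (Xs F).map f, x * y * x⁻¹ ∈ (Zs F).map f := by
        have h1 : ∀ a ∈ (As F).map f, (x * w) * a * (x * w)⁻¹ ∈ (As F).map f := by
          intro a ha
          have : (x * w) * a * (x * w)⁻¹ = x * (w * a * w⁻¹) * x⁻¹ := by group
          rw [this]
          exact hxA _ (hwA a ha)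
        have h2 : (x * w) * f (ts F) = f (ts F) * (x * w) := by
          rw [mul_assoc, hwt, ← mul_assoc, hxt, mul_assoc]
        rcases S.nm (x * w) h2 h1 with h3 | h3
        · intro y hy
          have h4 : w⁻¹ * y * w ∈ (Zs F).map f := by
            rw [hwZ]
            have : w * (w⁻¹ * y * w) * w⁻¹ = y := by group
            rwa [this]
          have h5 := h3 _ h4
          have : x * w * (w⁻¹ * y * w) * (x * w)⁻¹ = x * y * x⁻¹ := by group
          rwa [this] at h5
        · exfalso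
          -- `x Z = X` and `x X ≤ X`: then `Z = X`
          have h4 := h3 _ hZ1
          have h5 := h _ hZ1
          -- `x (w z w⁻¹) x⁻¹ ∈ X`, all of `x Z x⁻¹ = X`
          have h6 : ∀ y ∈ (Xs F).map f, ∃ z ∈ (Zs F).map f, x * z * x⁻¹ = y := by
            -- finiteness
            have hinj : Function.Injective (fun z : (Zs F).map f => (⟨x * z * x⁻¹, h z z.2⟩ : (Xs F).map f)) := by
              intro a b hab
              have := congrArg Subtype.val hab
              simp only [mul_left_inj, mul_right_inj] at this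
              exact Subtype.ext this
            have hfin : Finite ((Xs F).map f) := by
              have : Finite (El F) := Finite.of_equiv _ (equivEl (F := F)).symm
              have : Finite ((Xs F).map f) := Set.Finite.to_subtype ((Set.toFinite (Xs F : Set (El F))).image f)
              exact this
            have hcard : Nat.card ((Zs F).map f) = Nat.card ((Xs F).map f) := by
              refine Nat.card_congr ⟨fun y => ⟨w * y * w⁻¹, (hwZ y).1 y.2⟩, fun y => ⟨w⁻¹ * y * w, ?_⟩, ?_, ?_⟩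
              · rw [hwZ]
                have : w * (w⁻¹ * (y : G) * w) * w⁻¹ = y := by group
                rw [this]; exact y.2
              · intro y
                apply Subtype.ext
                show w⁻¹ * (w * (y : G) * w⁻¹) * w = y
                group
              · intro y
                apply Subtype.ext
                show w * (w⁻¹ * (y : G) * w) * w⁻¹ = y
                group
            have hfin' : Finite ((Zs F).map f) := Finite.of_injective _ hinj
            have hbij := (Nat.bijective_iff_injective_and_card _).2 ⟨hinj, hcard⟩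
            intro y hy
            obtain ⟨z, hz⟩ := hbij.2 ⟨y, hy⟩
            exact ⟨z, z.2, congrArg Subtype.val hz⟩
          obtain ⟨z, hz, hz'⟩ := h6 _ h4
          have h7 : z = w * f (q 1 0 0) * w⁻¹ := by
            have : x * w * f (q 1 0 0) * (x * w)⁻¹ = x * (w * f (q 1 0 0) * w⁻¹) * x⁻¹ := by group
            rw [this] at hz'
            simpa only [mul_left_inj, mul_right_inj] using hz'
          have h8 := S.inf_eq hz (by rw [h7]; exact (hwZ _).1 hZ1)
          rw [h8] at h7
          apply hZ1'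
          calc f (q 1 0 0) = w⁻¹ * (w * f (q 1 0 0) * w⁻¹) * w := by group
            _ = 1 := by rw [← h7]; group
      have hpow : ∀ k : ℕ, (∀ y ∈ (Zs F).map f, x ^ (2 * k) * y * (x ^ (2 * k))⁻¹ ∈ (Zs F).map f) ∧
          (∀ y ∈ (Zs F).map f, x ^ (2 * k + 1) * y * (x ^ (2 * k + 1))⁻¹ ∈ (Xs F).map f) := by
        intro k
        induction k with
        | zero =>
          refine ⟨fun y hy => by simpa using hy, fun y hy => ?_⟩
          have := h y hy
          simpa using this
        | succ k ih =>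
          have h1 : ∀ y ∈ (Zs F).map f, x ^ (2 * (k + 1)) * y * (x ^ (2 * (k + 1)))⁻¹ ∈ (Zs F).map f := by
            intro y hy
            have h2 := hX _ (ih.2 y hy)
            have : x * (x ^ (2 * k + 1) * y * (x ^ (2 * k + 1))⁻¹) * x⁻¹ =
                x ^ (2 * (k + 1)) * y * (x ^ (2 * (k + 1)))⁻¹ := by
              have e : 2 * (k + 1) = (2 * k + 1) + 1 := by ring
              rw [e, pow_succ' x (2 * k + 1)]
              group
            rwa [this] at h2
          refine ⟨h1, fun y hy => ?_⟩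
          have h2 := h _ (h1 y hy)
          have : x * (x ^ (2 * (k + 1)) * y * (x ^ (2 * (k + 1)))⁻¹) * x⁻¹ =
              x ^ (2 * (k + 1) + 1) * y * (x ^ (2 * (k + 1) + 1))⁻¹ := by
            rw [pow_succ' x (2 * (k + 1))]
            group
          rwa [this] at h2
      have hodd : Odd (3 ^ n) := Odd.pow (by decide)
      obtain ⟨k, hk⟩ := hodd
      have h1 := (hpow k).2 _ hZ1
      rw [← hk, hx] at h1
      simp only [one_mul, inv_one, mul_one] at h1
      exact hZ1' (S.inf_eq hZ1 h1)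
  -- `x` centralises an element of `Z`
  have hp : IsPGroup 3 (zpowers x) := by
    intro y
    obtain ⟨k, hk⟩ := mem_zpowers_iff.1 y.2
    refine ⟨n, ?_⟩
    apply Subtype.ext
    show (y : G) ^ 3 ^ n = 1
    rw [← hk, ← zpow_natCast, ← zpow_mul, mul_comm, zpow_mul, zpow_natCast, hx, one_zpow]
  have hfinEl : Finite (El F) := Finite.of_equiv _ (equivEl (F := F)).symm
  have hZfin : Finite ((Zs F).map f) := Set.Finite.to_subtype ((Set.toFinite (Zs F : Set (El F))).image f)
  obtain ⟨z, hz, hz1, hzx⟩ : ∃ z ∈ (Zs F).map f, z ≠ 1 ∧ x * z = z * x := by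
    let act : MulAction (zpowers x) ((Zs F).map f) :=
      { smul := fun g z => ⟨g * z * (g : G)⁻¹, by
          have h1 : ∀ k : ℕ, ∀ y ∈ (Zs F).map f, x ^ k * y * (x ^ k)⁻¹ ∈ (Zs F).map f := by
            intro k
            induction k with
            | zero => intro y hy; simpa using hy
            | succ k ih =>
              intro y hy
              have h2 := hfix _ (ih y hy)
              have : x * (x ^ k * y * (x ^ k)⁻¹) * x⁻¹ = x ^ (k + 1) * y * (x ^ (k + 1))⁻¹ := by
                rw [pow_succ' x k]; group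
              rwa [this] at h2
          have hfo : IsOfFinOrder x := isOfFinOrder_iff_pow_eq_one.2 ⟨3 ^ n, by positivity, hx⟩
          obtain ⟨k, hk⟩ := (hfo.mem_powers_iff_mem_zpowers).2 g.2
          have hk' : x ^ k = g := hk
          rw [← hk']
          exact h1 k z z.2⟩
        one_smul := fun z => Subtype.ext (by change (1 : G) * z * (1 : G)⁻¹ = z; simp)
        mul_smul := fun x y z => Subtype.ext (by
          change ((x : G) * y) * z * ((x : G) * y)⁻¹ = x * (y * z * (y : G)⁻¹) * (x : G)⁻¹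
          group) }
    have h1 : (1 : (Zs F).map f) ∈ MulAction.fixedPoints (zpowers x) ((Zs F).map f) := by
      intro g
      apply Subtype.ext
      change (g : G) * 1 * (g : G)⁻¹ = 1
      simp
    have hdvd : 3 ∣ Nat.card ((Zs F).map f) := by
      have h2 : orderOf (⟨_, hZ1⟩ : (Zs F).map f) = 3 := by
        rw [Subgroup.orderOf_mk]
        refine orderOf_eq_prime ?_ hZ1'
        rw [← map_pow, Qs_pow h3 (q_mem 1 0 0), map_one]
      rw [← h2]
      exact orderOf_dvd_natCard _
    obtain ⟨b, hb, hb1⟩ := hp.exists_fixed_point_of_prime_dvd_card_of_fixed_point ((Zs F).map f) hdvd h1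
    refine ⟨b, b.2, fun h => hb1 (Subtype.ext h.symm), ?_⟩
    have h2 : x * b * x⁻¹ = b := congrArg Subtype.val (hb ⟨x, mem_zpowers x⟩)
    calc x * (b : G) = x * b * x⁻¹ * x := by group
      _ = b * x := by rw [h2]
  obtain ⟨z', hz', A, rfl⟩ := S.cent_tz h2F hz hz1 hxt hzx
  obtain ⟨v, rfl⟩ := S.of_mem_Z hz'
  -- `A` is upper triangular
  obtain ⟨k, hk, hk'⟩ := hxA _ (XA f (S.mem_X (s := 1)))
  have hA10 : A.1 1 0 = 0 := by
    have h1 : f (q v 0 0) * f (emb F A) * f (emb F (up 1)) * (f (q v 0 0) * f (emb F A))⁻¹ =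
        f (emb F (A * up 1 * A⁻¹)) := by
      have h2 := S.comm_Z hz' (emb F (A * up 1 * A⁻¹))
      calc f (q v 0 0) * f (emb F A) * f (emb F (up 1)) * (f (q v 0 0) * f (emb F A))⁻¹
          = f (q v 0 0) * (f (emb F A) * f (emb F (up 1)) * (f (emb F A))⁻¹) * (f (q v 0 0))⁻¹ := by group
        _ = f (q v 0 0) * f (emb F (A * up 1 * A⁻¹)) * (f (q v 0 0))⁻¹ := by
          rw [map_mul (emb F), map_mul (emb F), map_mul f, map_mul f, map_inv (emb F), map_inv f]
        _ = _ := by rw [h2]; group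
    rw [h1] at hk'
    obtain ⟨-, -, s, hs⟩ := hk
    have h2 := congrArg El.A (S.inj hk')
    rw [hs, emb_A] at h2
    have h3 := congrArg (fun B : Matrix.SpecialLinearGroup (Fin 2) F => B.1 1 0) h2
    simp only [sl_mul, up00, up01, up10, up11, sl_inv00, sl_inv10] at h3
    have : A.1 1 0 * A.1 1 0 = 0 := by linear_combination h3
    exact mul_self_eq_zero.1 this
  have hdet := det_eq A
  rw [hA10, mul_zero, sub_zero] at hdet
  -- the diagonal entries are `1`
  have hApow : A ^ 3 ^ n = 1 := by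
    have h1 : Commute (f (q v 0 0)) (f (emb F A)) := S.comm_Z hz' _
    rw [h1.mul_pow] at hx
    rw [← map_pow, ← map_pow, ← map_pow, ← map_mul] at hx
    rw [← map_one f] at hx
    have h2 := congrArg El.A (S.inj hx)
    rw [mul_A, emb_A, one_A] at h2
    have h3 : ((q v 0 0 : El F) ^ 3 ^ n).A = 1 := by
      have : (mat F) ((q v 0 0 : El F) ^ 3 ^ n) = 1 := by
        rw [map_pow]
        show (1 : Matrix.SpecialLinearGroup (Fin 2) F) ^ 3 ^ n = 1
        rw [one_pow]
      exact this
    rw [h3, one_mul] at h2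
    exact h2
  have hA00 : ∀ k : ℕ, (A ^ k).1 0 0 = A.1 0 0 ^ k ∧ (A ^ k).1 1 0 = 0 := by
    intro k
    induction k with
    | zero => simp [sl_one00, sl_one10]
    | succ k ih =>
      rw [pow_succ A k, sl_mul, sl_mul, ih.1, ih.2, hA10]
      constructor
      · ring
      · ring
  have h00 : A.1 0 0 ^ 3 ^ n = 1 := by
    rw [← (hA00 _).1, hApow, sl_one00]
  have hchar : CharP F 3 := by
    have h1 : ringChar F ∣ 3 := (ringChar.spec F 3).1 (by exact_mod_cast h3)
    rcases (Nat.dvd_prime Nat.prime_three).1 h1 with h | h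
    · exact absurd h (CharP.ringChar_ne_one)
    · exact ringChar.of_eq h
  have ha1 : A.1 0 0 = 1 := by
    have h1 : (A.1 0 0 - 1) ^ 3 ^ n = 0 := by
      rw [sub_pow_char_pow, h00, one_pow, sub_self]
    have := (pow_eq_zero_iff (by positivity)).1 h1
    linear_combination this
  have hA : A = up (A.1 0 1) := by
    apply sl_ext
    · rw [up00, ha1]
    · rw [up01]
    · rw [up10, hA10]
    · rw [up11]
      rw [ha1, one_mul] at hdet
      exact hdet
  rw [hA]
  exact ((As F).map f).mul_mem (ZA f hz') (XA f S.mem_X)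

end Sw

end Cfsg.Agent.H334.Sp4
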