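import Cfsg.Agent.H334.Sp4.Cent2

/-!
# The centralizer of the involution `t`: `C_G(t) = (SL(2,q) ∘ SL(2,q)) ⟨w⟩`, the conclusion
-/

set_option autoImplicit false
set_option linter.unusedSectionVars false
set_option linter.unusedVariables false
set_option linter.unusedSimpArgs false

universe u v

open Subgroup

namespace Cfsg.Agent.H334.Sp4

open Cfsg.Agent.H339 Cfsg.Agent.H334.Symp Cfsg.Agent.H334.Symp.El

namespace Ctx

variable {G : Type u} {F : Type v} [Group G] [Field F] {f : El F →* G} {w : G} {X : Type u} [Group X]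
    {π : ↥(centralizer ({f (ts F)} : Set G)) →* X}

/-- the second `SL(2,F)` -/
def b (C : Ctx f w π) (B : Matrix.SpecialLinearGroup (Fin 2) F) : G := w * f (emb F B) * w⁻¹

theorem b_mul (C : Ctx f w π) (A B : Matrix.SpecialLinearGroup (Fin 2) F) : C.b (A * B) = C.b A * C.b B := by
  unfold b
  rw [map_mul, map_mul]; group

theorem b_inv (C : Ctx f w π) (A : Matrix.SpecialLinearGroup (Fin 2) F) : C.b A⁻¹ = (C.b A)⁻¹ := by
  unfold b
  rw [map_inv, map_inv]; group

/-- **The two `SL(2,F)` commute.** -/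
theorem comm (C : Ctx f w π) [Finite G] [Fintype F] {m : ℕ} (hm3 : 3 ≤ m) (hF : Fintype.card F = 3 ^ m)
    (hS : Star.{u}) (A B : Matrix.SpecialLinearGroup (Fin 2) F) :
    f (emb F A) * C.b B = C.b B * f (emb F A) := by
  have hcF : 3 < Fintype.card F := by
    rw [hF]
    calc 3 < 3 ^ 2 := by norm_num
      _ ≤ 3 ^ m := Nat.pow_le_pow_right (by norm_num) (by omega)
  have hXfin : Finite X := Finite.of_surjective π C.surj
  have htt := C.sw.t_sq
  obtain ⟨h, T, -⟩ := C.twin hm3 hF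
  obtain ⟨hcomm, -⟩ := T.main hS
  -- commutators in `⟨t⟩`
  have hb : ∀ A B, f (emb F A) * C.b B = C.b B * f (emb F A) ∨ f (emb F A) * C.b B = C.b B * f (emb F A) * f (ts F) := by
    intro A B
    have h1 := hcomm _ ⟨A, rfl⟩ _ ⟨B, rfl⟩
    have h2 : π (C.j A * (C.wY * C.j B * C.wY⁻¹)) = π ((C.wY * C.j B * C.wY⁻¹) * C.j A) := by
      simp only [map_mul, map_inv]
      exact h1
    exact C.eq_iff h2
  have htb : ∀ B, f (ts F) * C.b B = C.b B * f (ts F) := by
    intro B
    have h1 := C.sw.t_comm C.two B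
    have h2 := C.wt
    unfold b
    have h3 : w⁻¹ * f (ts F) = f (ts F) * w⁻¹ := by
      rw [inv_mul_eq_iff_eq_mul, ← mul_assoc, h2]; group
    calc f (ts F) * (w * f (emb F B) * w⁻¹) = (f (ts F) * w) * f (emb F B) * w⁻¹ := by group
      _ = (w * f (ts F)) * f (emb F B) * w⁻¹ := by rw [h2]
      _ = w * (f (ts F) * f (emb F B)) * w⁻¹ := by group
      _ = w * (f (emb F B) * f (ts F)) * w⁻¹ := by rw [h1]
      _ = w * f (emb F B) * (f (ts F) * w⁻¹) := by group
      _ = w * f (emb F B) * (w⁻¹ * f (ts F)) := by rw [h3]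
      _ = w * f (emb F B) * w⁻¹ * f (ts F) := by group
  let N : Subgroup (Matrix.SpecialLinearGroup (Fin 2) F) :=
    (centralizer (Set.range C.b)).comap (f.comp (emb F))
  have memN : ∀ A, A ∈ N ↔ ∀ B, f (emb F A) * C.b B = C.b B * f (emb F A) := by
    intro A
    show f (emb F A) ∈ centralizer (Set.range C.b) ↔ _
    rw [mem_centralizer_iff]
    constructor
    · intro h B
      exact (h _ ⟨B, rfl⟩).symm
    · rintro h _ ⟨B, rfl⟩
      exact (h B).symm
  have hN : N.Normal := by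
    refine ⟨fun A hA D => ?_⟩
    rw [memN] at hA ⊢
    intro B
    have ht := C.sw.t_comm C.two
    have e : f (emb F (D * A * D⁻¹)) = f (emb F D) * f (emb F A) * (f (emb F D))⁻¹ := by
      simp only [map_mul, map_inv]
    rw [e]
    have h1 : (f (emb F D))⁻¹ * C.b B * f (emb F D) = C.b B ∨
        (f (emb F D))⁻¹ * C.b B * f (emb F D) = C.b B * f (ts F) := by
      rcases hb D B with h1 | h1
      · left
        rw [mul_assoc, ← h1]; group
      · right
        have h2 : f (emb F D) * (C.b B * f (ts F)) = C.b B * f (emb F D) := by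
          rw [← mul_assoc, h1, mul_assoc, htt, mul_one]
        rw [mul_assoc, ← h2]; group
    have h2 : f (emb F A) * ((f (emb F D))⁻¹ * C.b B * f (emb F D)) =
        ((f (emb F D))⁻¹ * C.b B * f (emb F D)) * f (emb F A) := by
      rcases h1 with h1 | h1
      · rw [h1, hA B]
      · rw [h1, ← mul_assoc, hA B, mul_assoc, ht A, ← mul_assoc]
    calc f (emb F D) * f (emb F A) * (f (emb F D))⁻¹ * C.b B
        = f (emb F D) * (f (emb F A) * ((f (emb F D))⁻¹ * C.b B * f (emb F D))) * (f (emb F D))⁻¹ := by group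
      _ = f (emb F D) * (((f (emb F D))⁻¹ * C.b B * f (emb F D)) * f (emb F A)) * (f (emb F D))⁻¹ := by rw [h2]
      _ = C.b B * (f (emb F D) * f (emb F A) * (f (emb F D))⁻¹) := by group
  have hsq : ∀ A, A * A ∈ N := by
    intro A
    rw [memN]
    intro B
    rw [map_mul, map_mul]
    have ht := C.sw.t_comm C.two A
    rcases hb A B with h1 | h1
    · rw [mul_assoc, h1, ← mul_assoc, h1, mul_assoc]
    · calc f (emb F A) * f (emb F A) * C.b B = f (emb F A) * (f (emb F A) * C.b B) := by group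
        _ = f (emb F A) * (C.b B * f (emb F A) * f (ts F)) := by rw [h1]
        _ = (f (emb F A) * C.b B) * f (emb F A) * f (ts F) := by group
        _ = (C.b B * f (emb F A) * f (ts F)) * f (emb F A) * f (ts F) := by rw [h1]
        _ = C.b B * f (emb F A) * (f (ts F) * f (emb F A)) * f (ts F) := by group
        _ = C.b B * f (emb F A) * (f (emb F A) * f (ts F)) * f (ts F) := by rw [ht]
        _ = C.b B * (f (emb F A) * f (emb F A)) * (f (ts F) * f (ts F)) := by group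
        _ = C.b B * (f (emb F A) * f (emb F A)) := by rw [htt, mul_one]
  rcases sl_normal hcF N hN with h1 | h1
  · have : A ∈ N := by rw [h1]; trivial
    exact (memN A).1 this B
  · exfalso
    have h2 : up (1 : F) ∈ N := by
      have h3 := hsq (up (1 / 2 : F))
      rw [← up_add] at h3
      have h4 : (1 / 2 : F) + 1 / 2 = 1 := by
        have := C.two
        field_simp
        norm_num
      rwa [h4] at h3
    rcases sl_center (h1 h2) with h3 | h3
    · have := congrArg (fun B : Matrix.SpecialLinearGroup (Fin 2) F => B.1 0 1) h3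
      simp only [up01, sl_one01] at this
      exact one_ne_zero this
    · have := congrArg (fun B : Matrix.SpecialLinearGroup (Fin 2) F => B.1 0 1) h3
      simp only [up01, neg_one_apply, sl_one01, neg_zero] at this
      exact one_ne_zero this

/-- **The structure of `C_G(t)`.** -/
theorem exists_form (C : Ctx f w π) [Finite G] [Fintype F] {m : ℕ} (hm3 : 3 ≤ m) (hF : Fintype.card F = 3 ^ m)
    (h4 : 3 ^ m % 4 = 3) (hS : Star.{u}) {y : G} (hy : y * f (ts F) = f (ts F) * y) :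
    ∃ A B, y = f (emb F A) * C.b B ∨ y = f (emb F A) * C.b B * w := by
  classical
  have h3p : Fact (Nat.Prime 3) := ⟨Nat.prime_three⟩
  have hXfin : Finite X := Finite.of_surjective π C.surj
  have htt := C.sw.t_sq
  have ht1 := C.sw.t_ne C.two
  have hcomm := C.comm hm3 hF hS
  obtain ⟨h, T, hind⟩ := C.twin hm3 hF
  obtain ⟨-, N, hN, hNmem⟩ := T.main hS
  -- elements of `C_G(t)` which are in `N` modulo `t`
  have hform : ∀ g : ↥(centralizer ({f (ts F)} : Set G)), π g ∈ N → ∃ A B, (g : G) = f (emb F A) * C.b B := by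
    intro g hg
    obtain ⟨a, ⟨A, rfl⟩, b, ⟨B, rfl⟩, h1⟩ := (hNmem _).1 hg
    have h2 : π g = π (C.j A * (C.wY * C.j B * C.wY⁻¹)) := by
      rw [h1]
      simp only [map_mul, map_inv]
      rfl
    rcases C.eq_iff h2 with h3 | h3
    · exact ⟨A, B, h3⟩
    · refine ⟨-A, B, ?_⟩
      have h4 : (g : G) = f (emb F A) * C.b B * f (ts F) := h3
      rw [h4, C.f_neg]
      have h5 := hcomm (-1) B
      have h6 : f (emb F (-1)) = f (ts F) := rfl
      rw [h6] at h5
      rw [mul_assoc, ← h5]; group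
  have hformN : ∀ A B, ∀ g : ↥(centralizer ({f (ts F)} : Set G)), (g : G) = f (emb F A) * C.b B → π g ∈ N := by
    intro A B g hg
    rw [hNmem]
    refine ⟨_, ⟨A, rfl⟩, _, ⟨B, rfl⟩, ?_⟩
    have : g = C.j A * (C.wY * C.j B * C.wY⁻¹) := Subtype.ext hg
    rw [this]
    simp only [map_mul, map_inv]
    rfl
  set yY : ↥(centralizer ({f (ts F)} : Set G)) := ⟨y, mem_centralizer_singleton_iff.2 hy⟩ with hyY
  -- `A ≤ N`
  have hA3 : ∀ a ∈ (As F).map f, a ^ 3 = 1 := by
    rintro _ ⟨k, hk, rfl⟩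
    rw [← map_pow, Ms_pow C.three ⟨hk.2.1, hk.2.2⟩, map_one]
  have hZb : ∀ z ∈ (Zs F).map f, ∃ s, z = C.b (up s) := by
    intro z hz
    have h1 : w⁻¹ * z * w ∈ (Xs F).map f := by
      rw [C.wX]
      have : w * (w⁻¹ * z * w) * w⁻¹ = z := by group
      rwa [this]
    obtain ⟨s, hs⟩ := C.sw.of_mem_X h1
    refine ⟨s, ?_⟩
    unfold b
    rw [← hs]; group
  have hAN : C.im ((As F).map f) ≤ N := by
    intro x hx
    obtain ⟨a, ha, rfl⟩ := C.mem_im.1 hx
    obtain ⟨z, hz, x, hx, h1⟩ := C.sw.dec_A ha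
    obtain ⟨s, rfl⟩ := hZb z hz
    obtain ⟨s', rfl⟩ := C.sw.of_mem_X hx
    refine hformN (up s') (up s) a ?_
    rw [h1, hcomm]
  have hIm3 : IsPGroup 3 (C.im ((As F).map f)) := by
    refine isPGroup_of_pow fun x hx => ?_
    obtain ⟨y, hy, rfl⟩ := C.mem_im.1 hx
    rw [← map_pow]
    have : y ^ 3 = 1 := Subtype.ext (hA3 y hy)
    rw [this, map_one]
  -- Frattini
  obtain ⟨c, hc, hcy⟩ := exists_conj_le (P := C.im ((As F).map f)) (C := N)
    (T := (C.im ((As F).map f)).map (MulAut.conj (π yY)).toMonoidHom) hIm3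
    (fun h => hind (h.trans (relIndex_dvd_index_of_le hAN)))
    (by
      rintro _ ⟨x, hx, rfl⟩
      exact hN.conj_mem x (hAN hx) _)
    (hIm3.map _)
  obtain ⟨cY, rfl⟩ := C.surj c
  set g : ↥(centralizer ({f (ts F)} : Set G)) := cY * yY with hg
  have hgt : (g : G) * f (ts F) = f (ts F) * g := mem_centralizer_singleton_iff.1 g.2
  have hgA : ∀ a ∈ (As F).map f, (g : G) * a * (g : G)⁻¹ ∈ (As F).map f := by
    intro a ha
    have haY : a ∈ centralizer ({f (ts F)} : Set G) := mem_centralizer_singleton_iff.2 (C.sw.tA C.two ha)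
    have h1 := hcy (π yY * π ⟨a, haY⟩ * (π yY)⁻¹) ⟨π ⟨a, haY⟩, C.mem_im.2 ⟨_, ha, rfl⟩, rfl⟩
    obtain ⟨a', ha', h2⟩ := C.mem_im.1 h1
    have h3 : π (g * ⟨a, haY⟩ * g⁻¹) = π a' := by
      rw [h2, hg]
      simp only [map_mul, map_inv]
      group
    rcases C.eq_iff h3 with h4 | h4
    · have : (g : G) * a * (g : G)⁻¹ = a' := h4
      rw [this]; exact ha'
    · exfalso
      have h5 : (g : G) * a * (g : G)⁻¹ = a' * f (ts F) := h4
      have h6 : ((g : G) * a * (g : G)⁻¹) ^ 3 = 1 := by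
        rw [conj_pow, hA3 _ ha]; simp
      have h7 : Commute (a' : G) (f (ts F)) := C.sw.tA C.two ha'
      rw [h5, h7.mul_pow, hA3 _ ha', one_mul, pow_succ, pow_two, htt, one_mul] at h6
      exact ht1 h6
  -- normalising `Z` up to `w`
  have hgZ : ∃ g' : G, g' * f (ts F) = f (ts F) * g' ∧ (∀ z ∈ (Zs F).map f, g' * z * g'⁻¹ ∈ (Zs F).map f) ∧
      ((g : G) = g' ∨ (g : G) = w * g') := by
    rcases C.sw.nm g hgt hgA with h1 | h1
    · exact ⟨g, hgt, h1, Or.inl rfl⟩
    · refine ⟨w⁻¹ * g, ?_, ?_, Or.inr (by group)⟩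
      · have h2 : w⁻¹ * f (ts F) = f (ts F) * w⁻¹ := by
          rw [inv_mul_eq_iff_eq_mul, ← mul_assoc, C.wt]; group
        rw [mul_assoc, hgt, ← mul_assoc, h2, mul_assoc]
      · intro z hz
        rw [C.wZ]
        have : w * (w⁻¹ * (g : G) * z * (w⁻¹ * (g : G))⁻¹) * w⁻¹ = g * z * (g : G)⁻¹ := by group
        rw [this]
        exact h1 z hz
  obtain ⟨g', hg't, hg'Z, hgg'⟩ := hgZ
  -- the torus of the second factor
  have hm1 : ¬ IsSquare (-1 : F) := by
    rw [FiniteField.isSquare_neg_one_iff, hF]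
    exact fun h => h h4
  have hg'form : ∃ A B, g' = f (emb F A) * C.b B := by
    obtain ⟨v, hv⟩ := C.sw.of_mem_Z (hg'Z _ (C.sw.mem_Z (v := 1)))
    obtain ⟨s₁, hs₁⟩ := hZb _ (C.sw.mem_Z (v := 1))
    obtain ⟨s₂, hs₂⟩ := hZb _ (C.sw.mem_Z (v := v))
    have hs₁0 : s₁ ≠ 0 := by
      rintro rfl
      have h1 : f (q 1 0 0) = 1 := by
        rw [hs₁]; unfold b; rw [up_zero, map_one, map_one]; group
      rw [← map_one f] at h1
      exact one_ne_zero (congrArg El.z (C.inj h1))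
    have hs₂0 : s₂ ≠ 0 := by
      rintro rfl
      have h1 : f (q v 0 0) = 1 := by
        rw [hs₂]; unfold b; rw [up_zero, map_one, map_one]; group
      rw [h1] at hv
      have h2 : f (q 1 0 0) = 1 := by
        calc f (q 1 0 0) = g'⁻¹ * (g' * f (q 1 0 0) * g'⁻¹) * g' := by group
          _ = 1 := by rw [hv]; group
      rw [← map_one f] at h2
      exact one_ne_zero (congrArg El.z (C.inj h2))
    have hact : ∀ (r : Fˣ) (s : F), C.b (dg r) * C.b (up s) * (C.b (dg r))⁻¹ = C.b (up ((r : F) * r * s)) := by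
      intro r s
      rw [← C.b_mul, ← C.b_inv, ← C.b_mul, dg_up]
    rcases sq_or_neg C.two hm1 (Units.mk0 s₂ hs₂0 / Units.mk0 s₁ hs₁0) with ⟨r, hr⟩ | ⟨r, hr⟩
    · have hr' : s₂ = (r : F) * r * s₁ := by
        have := congrArg (fun x : Fˣ => (x : F)) hr
        simp only [Units.val_div_eq_div_val, Units.val_mk0, Units.val_mul] at this
        rw [← this]; field_simp
      have h1 : ((C.b (dg r))⁻¹ * g') * f (q 1 0 0) = f (q 1 0 0) * ((C.b (dg r))⁻¹ * g') := by
        have h2 : C.b (dg r) * f (q 1 0 0) * (C.b (dg r))⁻¹ = g' * f (q 1 0 0) * g'⁻¹ := by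
          rw [hv, hs₁, hact, ← hr', ← hs₂]
        calc ((C.b (dg r))⁻¹ * g') * f (q 1 0 0) = (C.b (dg r))⁻¹ * (g' * f (q 1 0 0) * g'⁻¹) * g' := by group
          _ = (C.b (dg r))⁻¹ * (C.b (dg r) * f (q 1 0 0) * (C.b (dg r))⁻¹) * g' := by rw [h2]
          _ = f (q 1 0 0) * ((C.b (dg r))⁻¹ * g') := by group
      have h2 : ((C.b (dg r))⁻¹ * g') * f (ts F) = f (ts F) * ((C.b (dg r))⁻¹ * g') := by
        have h3 := hcomm (-1) (dg r)
        have h4 : f (emb F (-1)) = f (ts F) := rfl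
        rw [h4] at h3
        have h5 : (C.b (dg r))⁻¹ * f (ts F) = f (ts F) * (C.b (dg r))⁻¹ := by
          rw [inv_mul_eq_iff_eq_mul, ← mul_assoc, ← h3]; group
        rw [mul_assoc, hg't, ← mul_assoc, h5, mul_assoc]
      have hz1 : f (q 1 0 0) ≠ 1 := by
        intro h
        rw [← map_one f] at h
        exact one_ne_zero (congrArg El.z (C.inj h))
      obtain ⟨z', hz', A, hA⟩ := C.sw.cent_tz C.two C.sw.mem_Z hz1 h2 h1
      obtain ⟨s', rfl⟩ := hZb z' hz'
      refine ⟨A, dg r * up s', ?_⟩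
      rw [C.b_mul, ← mul_assoc, hcomm A (dg r), mul_assoc, hcomm A, ← hA]
      group
    · exfalso
      have hr' : -s₂ = (r : F) * r * s₁ := by
        have := congrArg (fun x : Fˣ => (x : F)) hr
        simp only [Units.val_neg, Units.val_div_eq_div_val, Units.val_mk0, Units.val_mul] at this
        rw [← this]; field_simp
      have h1 : q (-1 : F) 0 0 = (q 1 0 0)⁻¹ := by rw [q_inv, neg_zero]
      apply C.sw.inv 1 one_ne_zero ((C.b (dg r))⁻¹ * g')
      rw [h1, map_inv]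
      have h2 : C.b (dg r) * f (q 1 0 0) * (C.b (dg r))⁻¹ = (g' * f (q 1 0 0) * g'⁻¹)⁻¹ := by
        rw [hv, hs₂, ← C.b_inv (up s₂), ← up_neg]
        conv_lhs => rw [hs₁]
        rw [hact, hr']
      have h3 : g' * f (q 1 0 0) * g'⁻¹ = (C.b (dg r) * f (q 1 0 0) * (C.b (dg r))⁻¹)⁻¹ := by
        rw [h2, inv_inv]
      calc (C.b (dg r))⁻¹ * g' * f (q 1 0 0) * ((C.b (dg r))⁻¹ * g')⁻¹
          = (C.b (dg r))⁻¹ * (g' * f (q 1 0 0) * g'⁻¹) * C.b (dg r) := by group
        _ = (C.b (dg r))⁻¹ * (C.b (dg r) * f (q 1 0 0) * (C.b (dg r))⁻¹)⁻¹ * C.b (dg r) := by rw [h3]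
        _ = (f (q 1 0 0))⁻¹ := by group
  obtain ⟨A', B', hg'⟩ := hg'form
  have hg'Y : g' ∈ centralizer ({f (ts F)} : Set G) := mem_centralizer_singleton_iff.2 hg't
  have hg'N : π ⟨g', hg'Y⟩ ∈ N := hformN A' B' _ hg'
  rcases hgg' with h1 | h1
  · -- `y = c⁻¹ g'`
    have h2 : yY = cY⁻¹ * ⟨g', hg'Y⟩ := by
      apply Subtype.ext
      show (yY : G) = (cY : G)⁻¹ * g'
      rw [← h1, hg]
      show (yY : G) = (cY : G)⁻¹ * ((cY : G) * yY)
      group
    have h3 : π yY ∈ N := by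
      rw [h2, map_mul, map_inv]
      exact N.mul_mem (N.inv_mem hc) hg'N
    obtain ⟨A, B, h4⟩ := hform _ h3
    exact ⟨A, B, Or.inl h4⟩
  · have h2 : yY = cY⁻¹ * (C.wY * ⟨g', hg'Y⟩ * C.wY⁻¹) * C.wY := by
      apply Subtype.ext
      show (yY : G) = (cY : G)⁻¹ * (w * g' * w⁻¹) * w
      have h3 : (cY : G) * yY = w * g' := by rw [← h1]; rfl
      calc (yY : G) = (cY : G)⁻¹ * ((cY : G) * yY) := by group
        _ = (cY : G)⁻¹ * (w * g') := by rw [h3]
        _ = (cY : G)⁻¹ * (w * g' * w⁻¹) * w := by group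
    have h3 : π (yY * C.wY⁻¹) ∈ N := by
      have h4 : yY * C.wY⁻¹ = cY⁻¹ * (C.wY * ⟨g', hg'Y⟩ * C.wY⁻¹) := by rw [h2]; group
      rw [h4, map_mul, map_inv, map_mul, map_mul, map_inv]
      exact N.mul_mem (N.inv_mem hc) (hN.conj_mem _ hg'N _)
    obtain ⟨A, B, h4⟩ := hform _ h3
    refine ⟨A, B, Or.inr ?_⟩
    rw [← h4]
    show y = y * w⁻¹ * w
    group

end Ctx

end Cfsg.Agent.H334.Sp4
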