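import Cfsg.Agent.H334.Sp4.Invol
import Cfsg.Agent.H334.Symp.Final

/-!
# `G` is simple
-/

set_option autoImplicit false
set_option linter.unusedSectionVars false
set_option linter.unusedVariables false
set_option linter.unusedSimpArgs false

universe u v

open Subgroup

namespace Cfsg.Agent.H334.Sp4

open Cfsg.Agent.H339 Cfsg.Agent.H334.Symp Cfsg.Agent.H334.Symp.El

namespace Ctx

variable {G : Type u} {F : Type v} [Group G] [Field F] {f : El F →* G} {w : G} {X : Type u} [Group X]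
    {π : ↥(centralizer ({f (ts F)} : Set G)) →* X}

theorem Zb (C : Ctx f w π) : ∀ z ∈ (Zs F).map f, ∃ s, z = C.b (up s) := by
  intro z hz
  have h1 : w⁻¹ * z * w ∈ (Xs F).map f := by
    rw [C.wX]
    have : w * (w⁻¹ * z * w) * w⁻¹ = z := by group
    rwa [this]
  obtain ⟨s, hs⟩ := C.sw.of_mem_X h1
  refine ⟨s, ?_⟩
  unfold b
  rw [← hs]; group

theorem b_act (C : Ctx f w π) (r : Fˣ) (s : F) :
    C.b (dg r) * C.b (up s) * (C.b (dg r))⁻¹ = C.b (up ((r : F) * r * s)) := by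
  rw [← C.b_mul, ← C.b_inv, ← C.b_mul, dg_up]

/-- two nontrivial elements of `Z` are conjugate by the torus of `L₂`, up to inversion -/
theorem torus (C : Ctx f w π) [Fintype F] {m : ℕ} (hF : Fintype.card F = 3 ^ m) (h4 : 3 ^ m % 4 = 3)
    {v v' : F} (hv : v ≠ 0) (hv' : v' ≠ 0) : ∃ r : Fˣ,
      C.b (dg r) * f (q v 0 0) * (C.b (dg r))⁻¹ = f (q v' 0 0) ∨
      C.b (dg r) * f (q v 0 0) * (C.b (dg r))⁻¹ = f (q (-v') 0 0) := by
  have hm1 : ¬ IsSquare (-1 : F) := by
    rw [FiniteField.isSquare_neg_one_iff, hF]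
    exact fun h => h h4
  obtain ⟨s₁, hs₁⟩ := C.Zb _ (C.sw.mem_Z (v := v))
  obtain ⟨s₂, hs₂⟩ := C.Zb _ (C.sw.mem_Z (v := v'))
  have h0 : ∀ u : F, u ≠ 0 → ∀ s, f (q u 0 0) = C.b (up s) → s ≠ 0 := by
    rintro u hu s hs rfl
    have h1 : f (q u 0 0) = 1 := by
      rw [hs]; unfold b; rw [up_zero, map_one, map_one]; group
    rw [← map_one f] at h1
    exact hu (congrArg El.z (C.inj h1))
  have hs₁0 := h0 v hv s₁ hs₁
  have hs₂0 := h0 v' hv' s₂ hs₂
  rcases sq_or_neg C.two hm1 (Units.mk0 s₂ hs₂0 / Units.mk0 s₁ hs₁0) with ⟨r, hr⟩ | ⟨r, hr⟩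
  · have hr' : s₂ = (r : F) * r * s₁ := by
      have := congrArg (fun x : Fˣ => (x : F)) hr
      simp only [Units.val_div_eq_div_val, Units.val_mk0, Units.val_mul] at this
      rw [← this]; field_simp
    exact ⟨r, Or.inl (by rw [hs₁, hs₂, C.b_act, ← hr'])⟩
  · have hr' : -s₂ = (r : F) * r * s₁ := by
      have := congrArg (fun x : Fˣ => (x : F)) hr
      simp only [Units.val_neg, Units.val_div_eq_div_val, Units.val_mk0, Units.val_mul] at this
      rw [← this]; field_simp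
    refine ⟨r, Or.inr ?_⟩
    have h1 : f (q (-v') 0 0) = (f (q v' 0 0))⁻¹ := by
      have : q (-v') 0 0 = (q v' 0 0)⁻¹ := by rw [q_inv, neg_zero]
      rw [this, map_inv]
    rw [h1, hs₁, hs₂, C.b_act, ← hr', up_neg, C.b_inv]

/-- **`G` is simple.** -/
theorem simple (C : Ctx f w π) [Finite G] [Fintype F] {m : ℕ} (hm3 : 3 ≤ m) (hF : Fintype.card F = 3 ^ m)
    (h4 : 3 ^ m % 4 = 3)
    (S : Setup f.range ((Zs F).map f) ((Qs F).map f) ((Ps F).map f) ((Ms F).map f) ((Ds F).map f) (f (ts F))) :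
    IsSimpleGroup G := by
  have h3p : Fact (Nat.Prime 3) := ⟨Nat.prime_three⟩
  have hcF : 3 < Fintype.card F := by
    rw [hF]
    calc 3 < 3 ^ 2 := by norm_num
      _ ≤ 3 ^ m := Nat.pow_le_pow_right (by norm_num) (by omega)
  have htt := C.sw.t_sq
  have ht1 := C.sw.t_ne C.two
  have hnt : Nontrivial G := ⟨⟨_, _, ht1⟩⟩
  refine { exists_pair_ne := hnt.exists_pair_ne, eq_bot_or_eq_top_of_normal := fun N hN => ?_ }
  by_cases hbot : N = ⊥
  · exact Or.inl hbot
  right
  -- `3 ∣ |N|`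
  have h3N : 3 ∣ Nat.card N := by
    by_contra h
    exact hbot (S.eq_bot_of_coprime ((Nat.Prime.coprime_iff_not_dvd Nat.prime_three).2 h)
      (fun c _ k hk => hN.conj_mem k hk c))
  obtain ⟨x, hx⟩ := exists_prime_orderOf_dvd_card' (G := N) 3 h3N
  have hx3 : IsPGroup 3 (zpowers (x : G)) := by
    refine isPGroup_of_pow fun y hy => ?_
    obtain ⟨k, rfl⟩ := mem_zpowers_iff.1 hy
    have h1 : (x : G) ^ 3 = 1 := by
      have := pow_orderOf_eq_one x
      rw [hx] at this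
      exact congrArg Subtype.val this
    rw [← zpow_natCast, ← zpow_mul, mul_comm, zpow_mul, zpow_natCast, h1, one_zpow]
  obtain ⟨g, hg⟩ := S.conjP hx3
  have h3NP : 3 ∣ Nat.card (N ⊓ (Ps F).map f : Subgroup G) := by
    have h1 : (⟨g * x * g⁻¹, hN.conj_mem x x.2 g, hg x (mem_zpowers _)⟩ : (N ⊓ (Ps F).map f : Subgroup G)) ≠ 1 := by
      intro h
      have h2 : g * x * g⁻¹ = 1 := congrArg Subtype.val h
      have h3 : (x : G) = 1 := by
        calc (x : G) = g⁻¹ * (g * x * g⁻¹) * g := by group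
          _ = 1 := by rw [h2]; group
      have h5 : x = 1 := Subtype.ext h3
      rw [h5, orderOf_one] at hx
      omega
    have h2 : IsPGroup 3 (N ⊓ (Ps F).map f : Subgroup G) := S.P3.to_le inf_le_right
    obtain ⟨n, hn⟩ := IsPGroup.iff_card.1 h2
    rw [hn]
    rcases Nat.eq_zero_or_pos n with h0 | h0
    · exfalso
      rw [h0, pow_zero] at hn
      have := (Nat.card_eq_one_iff_unique.1 hn).1
      exact h1 (Subsingleton.elim _ _)
    · exact dvd_pow_self 3 (by omega)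
  obtain ⟨z, ⟨hzN, hzP⟩, hz1, hzc⟩ := exists_fixed S.P3 h3NP (fun x hx z hz =>
    ⟨hN.conj_mem z hz.1 x, ((Ps F).map f).mul_mem (((Ps F).map f).mul_mem hx hz.2) (((Ps F).map f).inv_mem hx)⟩)
  have hzZ : z ∈ (Zs F).map f := S.Pcent z hzP (fun y hy => (hzc y hy).symm)
  -- `f (emb A) ∈ N`
  have hLN : ∀ A, f (emb F A) ∈ N := by
    obtain ⟨s, hs⟩ := C.sw.of_mem_X ((C.wZ z).1 hzZ)
    have hs0 : s ≠ 0 := by
      rintro rfl
      apply hz1
      rw [up_zero, map_one, map_one] at hs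
      calc z = w⁻¹ * (w * z * w⁻¹) * w := by group
        _ = 1 := by rw [hs]; group
    have h1 : up s ∈ N.comap (f.comp (emb F)) := by
      show f (emb F (up s)) ∈ N
      rw [← hs]; exact hN.conj_mem z hzN w
    rcases sl_normal hcF (N.comap (f.comp (emb F))) (hN.comap _) with h2 | h2
    · intro A
      have : A ∈ N.comap (f.comp (emb F)) := by rw [h2]; trivial
      exact this
    · exfalso
      rcases sl_center (h2 h1) with h3 | h3
      · have := congrArg (fun B : Matrix.SpecialLinearGroup (Fin 2) F => B.1 0 1) h3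
        simp only [up01, sl_one01] at this
        exact hs0 this
      · have := congrArg (fun B : Matrix.SpecialLinearGroup (Fin 2) F => B.1 0 1) h3
        simp only [up01, neg_one_apply, sl_one01, neg_zero] at this
        exact hs0 this
  have htN : f (ts F) ∈ N := hLN (-1)
  have hZN : ∀ z ∈ (Zs F).map f, z ∈ N := by
    intro z hz
    obtain ⟨s, rfl⟩ := C.Zb z hz
    exact hN.conj_mem _ (hLN _) w
  have hVN : ∀ x y : F, f (q 0 x y) ∈ N := by
    intro x y
    have h1 : q 0 x y = ts F * q 0 x y * (ts F)⁻¹ * (q 0 x y)⁻¹ := by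
      have h00 : (ts F).A.1 0 0 = -1 := by
        show ((-1 : Matrix.SpecialLinearGroup (Fin 2) F)).1 0 0 = -1
        rw [neg_one_apply, sl_one00]
      have h01 : (ts F).A.1 0 1 = 0 := by
        show ((-1 : Matrix.SpecialLinearGroup (Fin 2) F)).1 0 1 = 0
        rw [neg_one_apply, sl_one01, neg_zero]
      have h10 : (ts F).A.1 1 0 = 0 := by
        show ((-1 : Matrix.SpecialLinearGroup (Fin 2) F)).1 1 0 = 0
        rw [neg_one_apply, sl_one10, neg_zero]
      have h11 : (ts F).A.1 1 1 = -1 := by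
        show ((-1 : Matrix.SpecialLinearGroup (Fin 2) F)).1 1 1 = -1
        rw [neg_one_apply, sl_one11]
      have hz : (ts F).z = 0 := rfl
      have hx : (ts F).x = 0 := rfl
      have hy : (ts F).y = 0 := rfl
      have h3 := C.three
      ext1
      · simp only [mul_z, mul_x, mul_y, mul_A, inv_z, inv_x, inv_y, inv_A, sl_mul, q, sl_one00, sl_one01, sl_one10,
          sl_one11, h00, h01, h10, h11, hz, hx, hy, sl_inv00, sl_inv01, sl_inv10, sl_inv11]
        ring
      · simp only [mul_z, mul_x, mul_y, mul_A, inv_z, inv_x, inv_y, inv_A, sl_mul, q, sl_one00, sl_one01, sl_one10,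
          sl_one11, h00, h01, h10, h11, hz, hx, hy, sl_inv00, sl_inv01, sl_inv10, sl_inv11]
        linear_combination x * h3
      · simp only [mul_z, mul_x, mul_y, mul_A, inv_z, inv_x, inv_y, inv_A, sl_mul, q, sl_one00, sl_one01, sl_one10,
          sl_one11, h00, h01, h10, h11, hz, hx, hy, sl_inv00, sl_inv01, sl_inv10, sl_inv11]
        linear_combination y * h3
      · simp only [mul_A, q, inv_A, mul_one, inv_one]
        group
    have h2 : f (q 0 x y) = f (ts F) * (f (q 0 x y) * (f (ts F))⁻¹ * (f (q 0 x y))⁻¹) := by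
      conv_lhs => rw [h1]
      simp only [map_mul, map_inv]
      group
    rw [h2]
    exact mul_mem htN (hN.conj_mem _ (inv_mem htN) _)
  have hfN : ∀ k, f k ∈ N := by
    intro k
    have h1 : k = q k.z 0 0 * q 0 k.x k.y * emb F k.A := by
      ext1
      · simp [q]
      · simp [q]
      · simp [q]
      · simp [q]
    rw [h1, map_mul, map_mul]
    exact mul_mem (mul_mem (hZN _ C.sw.mem_Z) (hVN _ _)) (hLN _)
  have hbN : ∀ B, C.b B ∈ N := fun B => hN.conj_mem _ (hLN B) w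
  -- Frattini
  rw [eq_top_iff]
  intro g _
  obtain ⟨T, hT⟩ := S.exists_sylow
  have hPN : (Ps F).map f ≤ N := by
    rintro _ ⟨k, -, rfl⟩
    exact hfN k
  have hind : ¬ 3 ∣ ((Ps F).map f).relIndex N := by
    intro h
    apply T.not_dvd_index
    rw [hT]
    exact h.trans (relIndex_dvd_index_of_le hPN)
  obtain ⟨c, hc, hcP⟩ := exists_conj_le (P := (Ps F).map f) (C := N)
    (T := ((Ps F).map f).map (MulAut.conj g).toMonoidHom) S.P3 hind
    (by
      rintro _ ⟨y, hy, rfl⟩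
      exact hN.conj_mem y (hPN hy) g)
    (S.P3.map _)
  have hn : c * g ∈ normalizer (((Ps F).map f : Subgroup G) : Set G) := by
    apply mem_normalizer_of_conj_le
    intro y hy
    have h1 := hcP _ (conj_mem_map (g := g) hy)
    have : c * g * y * (c * g)⁻¹ = c * (g * y * g⁻¹) * c⁻¹ := by group
    rw [this]; exact h1
  rw [mem_normalizer_iff] at hn
  -- it normalises `Z`
  have hz : c * g * f (q 1 0 0) * (c * g)⁻¹ ∈ (Zs F).map f := by
    have hq : f (q 1 0 0) ∈ (Zs F).map f := C.sw.mem_Z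
    refine S.Pcent _ ((hn _).1 (S.QP (S.ZQ hq))) fun y hy => ?_
    have hy' : (c * g)⁻¹ * y * (c * g) ∈ (Ps F).map f := by
      rw [hn]
      have : c * g * ((c * g)⁻¹ * y * (c * g)) * (c * g)⁻¹ = y := by group
      rwa [this]
    have h1 : ((c * g)⁻¹ * y * (c * g)) * f (q 1 0 0) = f (q 1 0 0) * ((c * g)⁻¹ * y * (c * g)) :=
      S.zcomm hq (S.PC hy')
    calc c * g * f (q 1 0 0) * (c * g)⁻¹ * y = c * g * (f (q 1 0 0) * ((c * g)⁻¹ * y * (c * g))) * (c * g)⁻¹ := by group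
      _ = c * g * (((c * g)⁻¹ * y * (c * g)) * f (q 1 0 0)) * (c * g)⁻¹ := by rw [h1]
      _ = y * (c * g * f (q 1 0 0) * (c * g)⁻¹) := by group
  obtain ⟨v, hv⟩ := C.sw.of_mem_Z hz
  have hv0 : v ≠ 0 := by
    rintro rfl
    have h1 : f (q (0 : F) 0 0) = 1 := map_one f
    rw [h1] at hv
    have h2 : f (q (1 : F) 0 0) = 1 := by
      calc f (q 1 0 0) = (c * g)⁻¹ * (c * g * f (q 1 0 0) * (c * g)⁻¹) * (c * g) := by group
        _ = 1 := by rw [hv]; group
    rw [← map_one f] at h2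
    exact one_ne_zero (congrArg El.z (C.inj h2))
  have key : c * g ∈ N := by
    obtain ⟨r, hr | hr⟩ := C.torus hF h4 one_ne_zero hv0
    · have h1 : ((C.b (dg r))⁻¹ * (c * g)) * f (q 1 0 0) = f (q 1 0 0) * ((C.b (dg r))⁻¹ * (c * g)) := by
        have h2 : C.b (dg r) * f (q 1 0 0) * (C.b (dg r))⁻¹ = c * g * f (q 1 0 0) * (c * g)⁻¹ := by rw [hr, hv]
        calc ((C.b (dg r))⁻¹ * (c * g)) * f (q 1 0 0)
            = (C.b (dg r))⁻¹ * (c * g * f (q 1 0 0) * (c * g)⁻¹) * (c * g) := by group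
          _ = (C.b (dg r))⁻¹ * (C.b (dg r) * f (q 1 0 0) * (C.b (dg r))⁻¹) * (c * g) := by rw [h2]
          _ = f (q 1 0 0) * ((C.b (dg r))⁻¹ * (c * g)) := by group
      obtain ⟨k, hk⟩ := C.cent 1 one_ne_zero _ h1
      have h2 : c * g = C.b (dg r) * f k := by rw [hk]; group
      rw [h2]
      exact mul_mem (hbN _) (hfN _)
    · exfalso
      apply C.inv 1 one_ne_zero ((C.b (dg r))⁻¹ * (c * g))
      have hneg : ∀ v : F, f (q (-v) 0 0) = (f (q v 0 0))⁻¹ := by
        intro v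
        have : q (-v) 0 0 = (q v 0 0)⁻¹ := by rw [q_inv, neg_zero]
        rw [this, map_inv]
      rw [hneg] at hr ⊢
      have h2 : c * g * f (q 1 0 0) * (c * g)⁻¹ = (C.b (dg r) * f (q 1 0 0) * (C.b (dg r))⁻¹)⁻¹ := by
        rw [hr, hv, inv_inv]
      calc (C.b (dg r))⁻¹ * (c * g) * f (q 1 0 0) * ((C.b (dg r))⁻¹ * (c * g))⁻¹
          = (C.b (dg r))⁻¹ * (c * g * f (q 1 0 0) * (c * g)⁻¹) * C.b (dg r) := by group
        _ = (C.b (dg r))⁻¹ * (C.b (dg r) * f (q 1 0 0) * (C.b (dg r))⁻¹)⁻¹ * C.b (dg r) := by rw [h2]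
        _ = (f (q 1 0 0))⁻¹ := by group
  have : g = c⁻¹ * (c * g) := by group
  rw [this]
  exact mul_mem (inv_mem hc) key

end Ctx

end Cfsg.Agent.H334.Sp4
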