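import Cfsg.Agent.H334.Sp4.Syl2
import Cfsg.Agent.H334.Sp4.Simple
import Cfsg.Agent.S0509
import Cfsg.Agent.LieClassical.FieldTransfer

/-!
# Identification of `G`
-/

set_option autoImplicit false
set_option linter.unusedSectionVars false
set_option linter.unusedVariables false
set_option linter.unusedSimpArgs false

universe u v

open Subgroup

namespace Cfsg.Agent.H334.Sp4

open Cfsg.Agent.H339 Cfsg.Agent.H334.Symp Cfsg.Agent.H334.Symp.El

section PSp

variable {K : Type*} [Field K]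

/-- 3-subgroups of `SL(2,K)` are abelian (any finite 3-subgroup has a nontrivial centre, not `± 1`) -/
theorem sl_three [Finite K] (h3 : (2 : K) ≠ 0) {R : Subgroup (Matrix.SpecialLinearGroup (Fin 2) K)} (hR : IsPGroup 3 R) :
    ∀ x ∈ R, ∀ y ∈ R, x * y = y * x := by
  have : Fact (Nat.Prime 3) := ⟨Nat.prime_three⟩
  intro x hx y hy
  by_contra hne
  have hnt : Nontrivial R := ⟨⟨⟨x, hx⟩, ⟨y, hy⟩, fun h => hne (by rw [show x = y from congrArg Subtype.val h])⟩⟩
  have hc := hR.center_nontrivial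
  obtain ⟨⟨z, hz⟩, hz1⟩ := exists_ne (1 : Subgroup.center R)
  have hzc : ∀ y (hy : y ∈ R), (z : Matrix.SpecialLinearGroup (Fin 2) K) * y = y * z := fun y hy =>
    (congrArg Subtype.val (mem_center_iff.1 hz ⟨y, hy⟩)).symm
  have hz1' : (z : Matrix.SpecialLinearGroup (Fin 2) K) ≠ 1 := fun h => hz1 (Subtype.ext (Subtype.ext h))
  rcases sl_cent (hzc x hx) (hzc y hy) hne with h | h
  · exact hz1' h
  · obtain ⟨n, hn⟩ := hR z
    have h1 : (z : Matrix.SpecialLinearGroup (Fin 2) K) ^ 3 ^ n = 1 := congrArg Subtype.val hn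
    rw [h] at h1
    have h2 : Odd (3 ^ n) := Odd.pow (by decide)
    rw [h2.neg_one_pow] at h1
    exact hz1' (h.trans h1)

/-- the Sylow 3-subgroups of `PSp(4,K)`, `char K ≠ 2, 3`, are abelian -/
theorem psp_three [Fintype K] (hodd : Odd (Fintype.card K)) (h3 : ¬ 3 ∣ Fintype.card K) :
    ∃ R : Sylow 3 (Cfsg.PSp 2 K), ∀ x ∈ (R : Subgroup (Cfsg.PSp 2 K)), ∀ y ∈ (R : Subgroup (Cfsg.PSp 2 K)), x * y = y * x := by
  classical
  have h3p : Fact (Nat.Prime 3) := ⟨Nat.prime_three⟩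
  have h2 : (2 : K) ≠ 0 := (Cfsg.Agent.ClassicalGeometry.PSL2Basic.two_ne_zero_iff_odd K).2 hodd
  have T : Sylow 3 (Matrix.SpecialLinearGroup (Fin 2) K) := default
  have hTab := sl_three h2 T.isPGroup'
  let Φ : Matrix.SpecialLinearGroup (Fin 2) K × Matrix.SpecialLinearGroup (Fin 2) K →* Cfsg.PSp 2 K :=
    { toFun := fun p => (QuotientGroup.mk (Cfsg.Agent.SylowSp4.Recog.emb p.1 p.2) : Cfsg.PSp 2 K)
      map_one' := by
        show (QuotientGroup.mk (Cfsg.Agent.SylowSp4.Recog.emb 1 1) : Cfsg.PSp 2 K) = 1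
        rw [Cfsg.Agent.SylowSp4.Recog.emb_one]; rfl
      map_mul' := by
        rintro ⟨a, b⟩ ⟨c, d⟩
        show (QuotientGroup.mk (Cfsg.Agent.SylowSp4.Recog.emb (a * c) (b * d)) : Cfsg.PSp 2 K) = _
        rw [← Cfsg.Agent.SylowSp4.Recog.emb_mul]; rfl }
  let T2 : Subgroup (Matrix.SpecialLinearGroup (Fin 2) K × Matrix.SpecialLinearGroup (Fin 2) K) :=
    (T : Subgroup (Matrix.SpecialLinearGroup (Fin 2) K)).prod (T : Subgroup (Matrix.SpecialLinearGroup (Fin 2) K))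
  have hone : ∀ A ∈ (T : Subgroup (Matrix.SpecialLinearGroup (Fin 2) K)), A.1 = -1 → False := by
    intro A hA h
    obtain ⟨n, hn⟩ := T.isPGroup' ⟨A, hA⟩
    have h1 : A ^ 3 ^ n = 1 := congrArg Subtype.val hn
    have h5 : A = -1 := Subtype.ext h
    rw [h5] at h1
    have h6 : Odd (3 ^ n) := Odd.pow (by decide)
    rw [h6.neg_one_pow] at h1
    have h7 := congrArg (fun B : Matrix.SpecialLinearGroup (Fin 2) K => B.1 0 0) h1
    simp only [neg_one_apply, sl_one00] at h7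
    apply h2
    linear_combination -h7
  have hinj : Function.Injective (Φ.comp T2.subtype) := by
    rw [injective_iff_map_eq_one]
    rintro ⟨⟨A, B⟩, hA, hB⟩ h
    have h1 : Cfsg.Agent.SylowSp4.Recog.emb A B ∈ Subgroup.center (Matrix.symplecticGroup (Fin 2) K) :=
      (QuotientGroup.eq_one_iff _).1 h
    rcases Cfsg.Agent.SylowSp4.Recog.emb_mem_center h1 with ⟨h5, h6⟩ | ⟨h5, h6⟩
    · subst h5; subst h6; rfl
    · exact absurd h5 (fun h => hone A hA h)
  let R : Subgroup (Cfsg.PSp 2 K) := (Φ.comp T2.subtype).range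
  have hcard : Nat.card R = Nat.card T ^ 2 := by
    rw [Nat.card_congr (MonoidHom.ofInjective hinj).symm.toEquiv, Nat.card_congr (Subgroup.prodEquiv _ _).toEquiv,
      Nat.card_prod, pow_two]
  have hab : ∀ x ∈ R, ∀ y ∈ R, x * y = y * x := by
    rintro _ ⟨⟨⟨A, B⟩, hA, hB⟩, rfl⟩ _ ⟨⟨⟨C, D⟩, hC, hD⟩, rfl⟩
    rw [← map_mul, ← map_mul]
    congr 1
    apply Subtype.ext
    exact Prod.ext (hTab A hA C hC) (hTab B hB D hD)
  obtain ⟨n, hn⟩ := IsPGroup.iff_card.1 T.isPGroup'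
  have hRp : IsPGroup 3 R := IsPGroup.of_card (n := n * 2) (by rw [hcard, hn, ← pow_mul])
  have hidx : ¬ 3 ∣ R.index := by
    intro hdvd
    have h1 := R.card_mul_index
    have h4 := Cfsg.Agent.SylowSp4.Recog.card_PSp hodd
    have h5 := (T : Subgroup (Matrix.SpecialLinearGroup (Fin 2) K)).card_mul_index
    have h6 := T.not_dvd_index
    rw [Cfsg.Agent.ClassicalGeometry.PSL2Basic.card_SL2] at h5
    rw [← h1, hcard] at h4
    set q := Fintype.card K with hq
    set i := (T : Subgroup (Matrix.SpecialLinearGroup (Fin 2) K)).index with hi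
    have hq1 : 1 ≤ q := Fintype.card_pos
    have h7 : q ^ 4 - 1 = (q ^ 2 - 1) * (q ^ 2 + 1) := by
      have : 1 ≤ q ^ 2 := Nat.one_le_pow _ _ hq1
      zify [this, Nat.one_le_pow 4 q hq1]
      ring
    have h8 : Nat.card T ^ 2 * (R.index * 2) = Nat.card T ^ 2 * (q ^ 2 * i ^ 2 * (q ^ 2 + 1)) := by
      have e1 : q ^ 4 * ((q ^ 2 - 1) * (q ^ 4 - 1)) = q ^ 2 * (q * (q ^ 2 - 1)) ^ 2 * (q ^ 2 + 1) := by
        rw [h7]; ring
      rw [e1, ← h5] at h4
      linear_combination h4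
    have hTpos : 0 < Nat.card T ^ 2 := by rw [hn]; positivity
    have h9 := Nat.eq_of_mul_eq_mul_left hTpos h8
    have h10 : 3 ∣ q ^ 2 * i ^ 2 * (q ^ 2 + 1) := by
      rw [← h9]
      exact hdvd.mul_right 2
    rcases (Nat.Prime.dvd_mul Nat.prime_three).1 h10 with h11 | h11
    · rcases (Nat.Prime.dvd_mul Nat.prime_three).1 h11 with h12 | h12
      · exact h3 (Nat.prime_three.dvd_of_dvd_pow h12)
      · exact h6 (Nat.prime_three.dvd_of_dvd_pow h12)
    · have h12 : q % 3 = 1 ∨ q % 3 = 2 := by omega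
      have h13 : (q ^ 2 + 1) % 3 = 2 := by
        rcases h12 with h | h <;> rw [Nat.add_mod, Nat.pow_mod, h]
      omega
  exact ⟨hRp.toSylow hidx, hab⟩

end PSp

namespace Ctx

variable {G : Type u} {F : Type v} [Group G] [Field F] {f : El F →* G} {w : G} {X : Type u} [Group X]
    {π : ↥(centralizer ({f (ts F)} : Set G)) →* X}

/-- **Identification.** -/
theorem ident (C : Ctx f w π) [Finite G] [Fintype F] {m : ℕ} (hm3 : 3 ≤ m) (hF : Fintype.card F = 3 ^ m)
    (h4 : 3 ^ m % 4 = 3) (hS : Star.{u}) (hww : w * w = 1)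
    (S : Setup f.range ((Zs F).map f) ((Qs F).map f) ((Ps F).map f) ((Ms F).map f) ((Ds F).map f) (f (ts F))) :
    Nonempty (G ≃* Cfsg.PSp 2 F) := by
  classical
  have h3p : Fact (Nat.Prime 3) := ⟨Nat.prime_three⟩
  have hsimp := C.simple hm3 hF h4 S
  have hodd : Odd (Fintype.card F) := by rw [hF]; exact Odd.pow (by decide)
  obtain ⟨S2, P2, hiso⟩ := C.sylow_iso hm3 hF h4 hS hww
  obtain ⟨T, hT⟩ := S.exists_sylow
  have hTcard : Nat.card T = 3 ^ (4 * m) := by
    rw [hT, Nat.card_congr ((El.Ps F).equivMapOfInjective f C.inj).symm.toEquiv, card_Ps, Nat.card_eq_fintype_card, hF,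
      ← pow_mul, mul_comm]
  have hcG : 3 ^ 12 ≤ Nat.card G := by
    have h1 : Nat.card T ≤ Nat.card G := Subgroup.card_le_card_group _
    rw [hTcard] at h1
    calc 3 ^ 12 ≤ 3 ^ (4 * m) := Nat.pow_le_pow_right (by norm_num) (by omega)
      _ ≤ _ := h1
  rcases Cfsg.Agent.S0509.result hodd S2 P2 hiso with ⟨K, _, _, hKodd, ⟨e⟩⟩ | ⟨⟨e⟩⟩ | ⟨⟨e⟩⟩
  · -- `PSp(4,K)`
    have h3K : 3 ∣ Fintype.card K := by
      by_contra h3
      obtain ⟨R, hR⟩ := psp_three hKodd h3
      obtain ⟨v, hvQ, -, hvZ⟩ := S.QM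
      obtain ⟨w', hw'Q, hne, -⟩ := S.Qcomm v hvQ hvZ
      apply hne
      -- the image of `P` is conjugate into `R`
      have hp : IsPGroup 3 (((Ps F).map f).map e.toMonoidHom) := S.P3.map _
      obtain ⟨R', hR'⟩ := hp.exists_le_sylow
      obtain ⟨g, hg⟩ := MulAction.exists_smul_eq (Cfsg.PSp 2 K) R' R
      have hcj : ∀ x ∈ (Ps F).map f, g * e x * g⁻¹ ∈ (R : Subgroup (Cfsg.PSp 2 K)) := by
        intro x hx
        rw [← hg]
        exact Subgroup.smul_mem_pointwise_smul _ (MulAut.conj g) (R' : Subgroup (Cfsg.PSp 2 K)) (hR' ⟨x, hx, rfl⟩)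
      have h1 := hR _ (hcj v (S.QP hvQ)) _ (hcj w' (S.QP hw'Q))
      have h2 : e v * e w' = e w' * e v := by
        calc e v * e w' = g⁻¹ * ((g * e v * g⁻¹) * (g * e w' * g⁻¹)) * g := by group
          _ = g⁻¹ * ((g * e w' * g⁻¹) * (g * e v * g⁻¹)) * g := by rw [h1]
          _ = e w' * e v := by group
      have h5 : v * w' = w' * v := by
        apply e.injective
        rw [map_mul, map_mul, h2]
      rw [h5]; group
    obtain ⟨p, -, n, hp, hn⟩ := FiniteField.card' K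
    have hp3 : p = 3 := by
      rw [hn] at h3K
      exact ((Nat.prime_dvd_prime_iff_eq Nat.prime_three hp).1 (Nat.prime_three.dvd_of_dvd_pow h3K)).symm
    subst hp3
    -- orders
    have h1 := Cfsg.Agent.SylowSp4.Recog.card_PSp hKodd
    rw [← Nat.card_congr e.toEquiv, ← (T : Subgroup G).card_mul_index, hTcard, hn] at h1
    have hn1 : 1 ≤ (n : ℕ) := n.pos
    set b : ℕ := ((3 ^ (n : ℕ)) ^ 2 - 1) * ((3 ^ (n : ℕ)) ^ 4 - 1) with hb
    have hb3 : ¬ 3 ∣ b := by
      intro h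
      have key : ∀ j, 1 ≤ j → ¬ 3 ∣ (3 ^ (n : ℕ)) ^ j - 1 := by
        intro j hj h5
        have h6 : 3 ∣ (3 ^ (n : ℕ)) ^ j := by
          rw [← pow_mul]
          exact dvd_pow_self 3 (by positivity)
        have h7 : 1 ≤ (3 ^ (n : ℕ)) ^ j := Nat.one_le_pow _ _ (by positivity)
        omega
      rcases (Nat.Prime.dvd_mul Nat.prime_three).1 h with h5 | h5
      · exact key 2 (by norm_num) h5
      · exact key 4 (by norm_num) h5
    have ha3 : ¬ 3 ∣ (T : Subgroup G).index * 2 := by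
      intro h
      rcases (Nat.Prime.dvd_mul Nat.prime_three).1 h with h5 | h5
      · exact T.not_dvd_index h5
      · norm_num at h5
    rw [← pow_mul, mul_assoc] at h1
    have hcop : ∀ (j a : ℕ), ¬ 3 ∣ a → Nat.Coprime (3 ^ j) a := fun j a h =>
      Nat.Coprime.pow_left _ ((Nat.Prime.coprime_iff_not_dvd Nat.prime_three).2 h)
    have h5 : 3 ^ (4 * m) ∣ 3 ^ ((n : ℕ) * 4) :=
      (hcop _ _ hb3).dvd_of_dvd_mul_right (by rw [← h1]; exact dvd_mul_right _ _)
    have h6 : 3 ^ ((n : ℕ) * 4) ∣ 3 ^ (4 * m) :=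
      (hcop _ _ ha3).dvd_of_dvd_mul_right (by rw [h1]; exact dvd_mul_right _ _)
    have h7 := (Nat.pow_dvd_pow_iff_le_right (by norm_num : 1 < 3)).1 h5
    have h8 := (Nat.pow_dvd_pow_iff_le_right (by norm_num : 1 < 3)).1 h6
    have h9 : (n : ℕ) = m := by omega
    have h10 : Fintype.card K = Fintype.card F := by rw [hn, hF, h9]
    exact ⟨e.trans (Cfsg.Agent.LieClassical.FieldTransfer.pspCongr 2 (FiniteField.ringEquivOfCardEq h10))⟩
  · exfalso
    rw [Nat.card_congr e.toEquiv, nat_card_alternatingGroup, Nat.card_eq_fintype_card, Fintype.card_fin] at hcG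
    revert hcG
    decide
  · exfalso
    rw [Nat.card_congr e.toEquiv, nat_card_alternatingGroup, Nat.card_eq_fintype_card, Fintype.card_fin] at hcG
    revert hcG
    decide

end Ctx

/-- **S3241, the case in which `N(M)` does not normalise `P`.** -/
theorem case_one {G : Type u} [Group G] [Finite G] {F : Type v} [Field F] [Fintype F] (m : ℕ) (hm : Odd m)
    (hm1 : 1 < m) (hF : Fintype.card F = 3 ^ m) (hS : Star.{u})
    (hc : ∃ (P Q : Sylow 3 G) (a b : G), orderOf a = 3 ∧ orderOf b = 3 ∧ a ∈ (P : Subgroup G) ∧ b ∈ (Q : Subgroup G) ∧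
      (∀ p ∈ (P : Subgroup G), p * a = a * p) ∧ (∀ q ∈ (Q : Subgroup G), q * b = b * q) ∧ ¬ IsConj a b)
    (f : El F →* G) (hf : Function.Injective f)
    (S : Setup f.range ((Zs F).map f) ((Qs F).map f) ((Ps F).map f) ((Ms F).map f) ((Ds F).map f) (f (ts F)))
    (hnp : ¬ normalizer (((Ms F).map f : Subgroup G) : Set G) ≤ normalizer (((Ps F).map f : Subgroup G) : Set G)) :
    Nonempty (G ≃* Cfsg.PSp 2 F) := by
  have hm3 : 3 ≤ m := by
    obtain ⟨k, hk⟩ := hm
    omega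
  have h4 : 3 ^ m % 4 = 3 := by
    obtain ⟨k, rfl⟩ := hm
    rw [pow_succ, pow_mul, Nat.mul_mod, Nat.pow_mod]
    norm_num
  have h3 : (3 : F) = 0 := by
    have h1 : ((Fintype.card F : ℕ) : F) = 0 := Nat.cast_card_eq_zero F
    rw [hF] at h1
    have h2 : (3 : F) ^ m = 0 := by exact_mod_cast h1
    exact pow_eq_zero_iff (by omega) |>.1 h2
  have h2F : (2 : F) ≠ 0 := by
    intro h
    have : (1 : F) = 0 := by linear_combination h3 - h
    exact one_ne_zero this
  have Sw := exists_sw m hm hm1 hF h2F h3 hc f hf S hnp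
  obtain ⟨w, hwt, hwZ, hwX⟩ := Sw.swap
  obtain ⟨X, _, π, hπ, hker⟩ := Sw.exists_quot
  have C : Ctx f w π := { Sw with wt := hwt, wZ := hwZ, wX := hwX, surj := hπ, ker := hker, two := h2F, three := h3 }
  obtain ⟨w', C', hww⟩ := C.exists_invol hm3 hF h4 hS
  exact C'.ident hm3 hF h4 hS hww S

end Cfsg.Agent.H334.Sp4
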