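import Mathlib
import Cfsg.Agent.H334.Symp.Final
import Cfsg.Agent.H334.Sp4.Ident

/-!
# S3241 from S5325 for the prime 3 and from `Star`
-/

set_option autoImplicit false

universe u v

open Subgroup

namespace Cfsg.Agent.H334.Sp4

open Cfsg.Agent.H334.Symp

theorem final {G : Type u} [Group G] [Finite G] (hSC : SCThm.{u} 3) (hSt : Star.{u}) {F : Type v} [Field F]
    [Fintype F] (m : ℕ) (hm : Odd m) (hm1 : 1 < m) (hF : Fintype.card F = 3 ^ m)
    (U : Sylow 3 (Cfsg.PSp 2 F)) (x : Cfsg.PSp 2 F) (hx : orderOf x = 3) (hxU : x ∈ (U : Subgroup (Cfsg.PSp 2 F)))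
    (hxc : ∀ u ∈ (U : Subgroup (Cfsg.PSp 2 F)), u * x = x * u)
    (α : G) (e : ↥(Subgroup.centralizer ({α} : Set G)) ≃* ↥(Subgroup.centralizer ({x} : Set (Cfsg.PSp 2 F))))
    (hb : ∀ z : G, z ≠ 1 → z ∈ Subgroup.centralizer ({α} : Set G) →
      (∀ c ∈ Subgroup.centralizer ({α} : Set G), c * z = z * c) →
      Subgroup.centralizer ({z} : Set G) = Subgroup.centralizer ({α} : Set G))
    (hc : ∃ (P Q : Sylow 3 G) (a b : G), orderOf a = 3 ∧ orderOf b = 3 ∧ a ∈ (P : Subgroup G) ∧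
      b ∈ (Q : Subgroup G) ∧ (∀ p ∈ (P : Subgroup G), p * a = a * p) ∧ (∀ q ∈ (Q : Subgroup G), q * b = b * q) ∧
      ¬ IsConj a b) :
    (Subgroup.centralizer ({α} : Set G)).Normal ∨ Nonempty (G ≃* Cfsg.PSp 2 F) := by
  obtain ⟨f, hf, hr, S⟩ := exists_setup m hm1 hF U x hx hxU hxc α e hb
  by_cases hnp : normalizer (((El.Ms F).map f : Subgroup G) : Set G) ≤
      normalizer (((El.Ps F).map f : Subgroup G) : Set G)
  · left
    obtain ⟨hC, -⟩ := S.conclusion hSC hnp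
    rw [hr] at hC
    exact ⟨fun c hc y => hC y c hc⟩
  · right
    exact case_one m hm hm1 hF hSt hc f hf S hnp

end Cfsg.Agent.H334.Sp4
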