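import Cfsg.Agent.H334.Sp4.Cent3
import Cfsg.Agent.H339.Count

/-!
# The swap can be chosen an involution
-/

set_option autoImplicit false
set_option linter.unusedSectionVars false
set_option linter.unusedVariables false
set_option linter.unusedSimpArgs false

universe u v

open Subgroup

namespace Cfsg.Agent.H334.Sp4

open Cfsg.Agent.H339 Cfsg.Agent.H334.Symp Cfsg.Agent.H334.Symp.El

namespace Ctx

variable {G : Type u} {F : Type v} [Group G] [Field F] {f : El F →* G} {w : G} {X : Type u} [Group X]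
    {π : ↥(centralizer ({f (ts F)} : Set G)) →* X}

theorem b_one (C : Ctx f w π) : C.b 1 = 1 := by
  unfold b
  rw [map_one, map_one]; group

theorem b_neg_one (C : Ctx f w π) : C.b (-1) = f (ts F) := by
  unfold b
  have h1 : f (emb F (-1)) = f (ts F) := rfl
  rw [h1, C.wt]; group

/-- `L₁ ∩ L₂` is central -/
theorem inter (C : Ctx f w π) [Finite G] [Fintype F] {m : ℕ} (hm3 : 3 ≤ m) (hF : Fintype.card F = 3 ^ m)
    (hS : Star.{u}) {A B : Matrix.SpecialLinearGroup (Fin 2) F} (h : f (emb F A) = C.b B) : A = 1 ∨ A = -1 := by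
  have hcomm := C.comm hm3 hF hS
  apply sl_center
  rw [mem_center_iff]
  intro D
  have h1 := hcomm D B
  rw [← h, ← map_mul, ← map_mul, ← map_mul, ← map_mul] at h1
  exact congrArg El.A (C.inj h1)

theorem up1_ne : (up (1 : F)) ≠ 1 := by
  intro h
  have := congrArg (fun B : Matrix.SpecialLinearGroup (Fin 2) F => B.1 0 1) h
  simp only [up01, sl_one01] at this
  exact one_ne_zero this

theorem sq_form (C : Ctx f w π) [Finite G] [Fintype F] {m : ℕ} (hm3 : 3 ≤ m) (hF : Fintype.card F = 3 ^ m)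
    (h4 : 3 ^ m % 4 = 3) (hS : Star.{u}) :
    ∃ w' : G, Ctx f w' π ∧ (w' * w' = 1 ∨ w' * w' = f (ts F)) := by
  have hcomm := C.comm hm3 hF hS
  have hww : (w * w) * f (ts F) = f (ts F) * (w * w) := by
    rw [mul_assoc, C.wt, ← mul_assoc, C.wt, mul_assoc]
  obtain ⟨A, B, h1 | h1⟩ := C.exists_form hm3 hF h4 hS hww
  swap
  · exfalso
    have h2 : w = f (emb F A) * C.b B := mul_right_cancel h1
    have h3 : f (emb F (A * up 1 * A⁻¹)) ∈ (Zs F).map f := by
      have h4 := (C.wX _).1 (C.sw.mem_X (s := 1))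
      have h5 : w * f (emb F (up 1)) * w⁻¹ = f (emb F (A * up 1 * A⁻¹)) := by
        rw [h2, map_mul, map_mul, map_mul, map_mul, map_inv, map_inv]
        calc f (emb F A) * C.b B * f (emb F (up 1)) * (f (emb F A) * C.b B)⁻¹
            = f (emb F A) * (C.b B * f (emb F (up 1))) * (C.b B)⁻¹ * (f (emb F A))⁻¹ := by group
          _ = f (emb F A) * (f (emb F (up 1)) * C.b B) * (C.b B)⁻¹ * (f (emb F A))⁻¹ := by rw [hcomm]
          _ = f (emb F A) * f (emb F (up 1)) * (f (emb F A))⁻¹ := by group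
      rwa [h5] at h4
    obtain ⟨v, hv⟩ := C.sw.of_mem_Z h3
    have h4 : A * up 1 * A⁻¹ = 1 := congrArg El.A (C.inj hv)
    apply up1_ne (F := F)
    calc up (1 : F) = A⁻¹ * (A * up 1 * A⁻¹) * A := by group
      _ = 1 := by rw [h4]; group
  -- `B = ± A`
  have h2 : f (emb F A) * C.b B = f (emb F (A * B * A⁻¹)) * C.b A := by
    have h3 : w * w * (w⁻¹) = w := by group
    calc f (emb F A) * C.b B = w * (w * w) * w⁻¹ := by rw [← h1]; group
      _ = (w * f (emb F A) * w⁻¹) * (w * C.b B * w⁻¹) := by rw [h1]; group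
      _ = C.b A * ((w * w) * f (emb F B) * (w * w)⁻¹) := by unfold b; group
      _ = C.b A * (f (emb F A) * (C.b B * f (emb F B)) * (C.b B)⁻¹ * (f (emb F A))⁻¹) := by rw [h1]; group
      _ = C.b A * (f (emb F A) * (f (emb F B) * C.b B) * (C.b B)⁻¹ * (f (emb F A))⁻¹) := by rw [hcomm]
      _ = C.b A * f (emb F (A * B * A⁻¹)) := by
          rw [map_mul (emb F), map_mul (emb F), map_mul f, map_mul f, map_inv, map_inv]; group
      _ = f (emb F (A * B * A⁻¹)) * C.b A := by rw [hcomm]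
  have h3 : f (emb F ((A * B * A⁻¹)⁻¹ * A)) = C.b (A * B⁻¹) := by
    rw [C.b_mul, C.b_inv, map_mul (emb F), map_inv (emb F), map_mul f, map_inv f]
    rw [inv_mul_eq_iff_eq_mul, ← mul_assoc, ← h2]; group
  have h5 : B = A ∨ B = -A := by
    have h6 : (A * B * A⁻¹)⁻¹ * A = A * B⁻¹ := by group
    rcases C.inter hm3 hF hS h3 with h7 | h7
    · left
      rw [h6] at h7
      exact (mul_inv_eq_one.1 h7).symm
    · right
      rw [h6] at h7
      have h8 : A = -1 * B := mul_inv_eq_iff_eq_mul.1 h7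
      rw [h8]; simp
  -- `w'`
  have hwwX : ∀ x, x ∈ (Xs F).map f ↔ (w * w) * x * (w * w)⁻¹ ∈ (Xs F).map f := by
    intro x
    rw [C.wX, C.wZ]
    have : w * (w * x * w⁻¹) * w⁻¹ = w * w * x * (w * w)⁻¹ := by group
    rw [this]
  have hwwL : ∀ D, (w * w) * f (emb F D) * (w * w)⁻¹ = f (emb F A) * f (emb F D) * (f (emb F A))⁻¹ := by
    intro D
    rw [h1]
    calc f (emb F A) * C.b B * f (emb F D) * (f (emb F A) * C.b B)⁻¹
        = f (emb F A) * (C.b B * f (emb F D)) * (C.b B)⁻¹ * (f (emb F A))⁻¹ := by group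
      _ = f (emb F A) * (f (emb F D) * C.b B) * (C.b B)⁻¹ * (f (emb F A))⁻¹ := by rw [hcomm]
      _ = f (emb F A) * f (emb F D) * (f (emb F A))⁻¹ := by group
  have hX1 : ∀ x, x ∈ (Xs F).map f ↔ (f (emb F A))⁻¹ * x * f (emb F A) ∈ (Xs F).map f := by
    intro x
    constructor
    · intro hx
      have h6 : (w * w)⁻¹ * x * (w * w) ∈ (Xs F).map f := by
        rw [hwwX]
        have : w * w * ((w * w)⁻¹ * x * (w * w)) * (w * w)⁻¹ = x := by group
        rwa [this]
      obtain ⟨s, hs⟩ := C.sw.of_mem_X h6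
      have h7 := hwwL (up s)
      rw [← hs] at h7
      have h8 : (f (emb F A))⁻¹ * x * f (emb F A) = (w * w)⁻¹ * x * (w * w) := by
        calc (f (emb F A))⁻¹ * x * f (emb F A)
            = (f (emb F A))⁻¹ * (w * w * ((w * w)⁻¹ * x * (w * w)) * (w * w)⁻¹) * f (emb F A) := by group
          _ = (f (emb F A))⁻¹ * (f (emb F A) * ((w * w)⁻¹ * x * (w * w)) * (f (emb F A))⁻¹) * f (emb F A) := by rw [h7]
          _ = (w * w)⁻¹ * x * (w * w) := by group
      rw [h8]; exact h6
    · intro hx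
      obtain ⟨s, hs⟩ := C.sw.of_mem_X hx
      have h7 := (hwwX _).1 hx
      rw [hs, hwwL, ← hs] at h7
      have : f (emb F A) * ((f (emb F A))⁻¹ * x * f (emb F A)) * (f (emb F A))⁻¹ = x := by group
      rwa [this] at h7
  refine ⟨w * (f (emb F A))⁻¹, { C with wt := ?_, wZ := ?_, wX := ?_ }, ?_⟩
  · have h6 := C.sw.t_comm C.two A
    have h7 : (f (emb F A))⁻¹ * f (ts F) = f (ts F) * (f (emb F A))⁻¹ := by
      rw [inv_mul_eq_iff_eq_mul, ← mul_assoc, h6]; group
    rw [mul_assoc, h7, ← mul_assoc, C.wt, mul_assoc]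
  · intro x
    constructor
    · intro hx
      have h6 : x * (f (emb F A))⁻¹ = (f (emb F A))⁻¹ * x := by
        rw [← map_inv, ← map_inv]; exact C.sw.comm_Z hx _
      have h7 : w * (f (emb F A))⁻¹ * x * (w * (f (emb F A))⁻¹)⁻¹ = w * x * w⁻¹ := by
        calc w * (f (emb F A))⁻¹ * x * (w * (f (emb F A))⁻¹)⁻¹ = w * ((f (emb F A))⁻¹ * x) * f (emb F A) * w⁻¹ := by group
          _ = w * (x * (f (emb F A))⁻¹) * f (emb F A) * w⁻¹ := by rw [h6]
          _ = w * x * w⁻¹ := by group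
      rw [h7]; exact (C.wZ x).1 hx
    · intro hx
      have h7 : w * ((f (emb F A))⁻¹ * x * f (emb F A)) * w⁻¹ ∈ (Xs F).map f := by
        have : w * ((f (emb F A))⁻¹ * x * f (emb F A)) * w⁻¹ = w * (f (emb F A))⁻¹ * x * (w * (f (emb F A))⁻¹)⁻¹ := by group
        rwa [this]
      have h8 := (C.wZ _).2 h7
      have h6 : (f (emb F A))⁻¹ * x * f (emb F A) * f (emb F A) = f (emb F A) * ((f (emb F A))⁻¹ * x * f (emb F A)) :=
        C.sw.comm_Z h8 _
      have h9 : x = (f (emb F A))⁻¹ * x * f (emb F A) := by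
        calc x = f (emb F A) * ((f (emb F A))⁻¹ * x * f (emb F A)) * (f (emb F A))⁻¹ := by group
          _ = ((f (emb F A))⁻¹ * x * f (emb F A) * f (emb F A)) * (f (emb F A))⁻¹ := by rw [h6]
          _ = (f (emb F A))⁻¹ * x * f (emb F A) := by group
      rw [h9]; exact h8
  · intro x
    rw [hX1 x, C.wX]
    have : w * ((f (emb F A))⁻¹ * x * f (emb F A)) * w⁻¹ = w * (f (emb F A))⁻¹ * x * (w * (f (emb F A))⁻¹)⁻¹ := by group
    rw [this]
  · have h6 : w * (f (emb F A))⁻¹ * (w * (f (emb F A))⁻¹) = C.b (A⁻¹ * B) := by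
      calc w * (f (emb F A))⁻¹ * (w * (f (emb F A))⁻¹)
          = w * (f (emb F A))⁻¹ * w⁻¹ * (w * w) * (f (emb F A))⁻¹ := by group
        _ = C.b A⁻¹ * (f (emb F A) * C.b B) * (f (emb F A))⁻¹ := by
            rw [h1]; unfold b; rw [map_inv, map_inv]
        _ = C.b A⁻¹ * (C.b B * f (emb F A)) * (f (emb F A))⁻¹ := by rw [hcomm]
        _ = C.b (A⁻¹ * B) := by rw [C.b_mul]; group
    rw [h6]
    rcases h5 with rfl | rfl
    · left
      rw [inv_mul_cancel, C.b_one]
    · right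
      have : A⁻¹ * -A = -1 := by simp
      rw [this, C.b_neg_one]

/-- `w² ≠ t` -/
theorem sq_ne_t (C : Ctx f w π) [Finite G] [Fintype F] {m : ℕ} (hF : Fintype.card F = 3 ^ m)
    (h4 : 3 ^ m % 4 = 3) : w * w ≠ f (ts F) := by
  intro hww
  have htt := C.sw.t_sq
  have ht1 := C.sw.t_ne C.two
  have hA3 : ∀ a ∈ (Ms F).map f, a ^ 3 = 1 := by
    rintro _ ⟨k, hk, rfl⟩
    rw [← map_pow, Ms_pow C.three hk, map_one]
  -- `w` normalises `M`
  have hwA : ∀ a ∈ (As F).map f, w * a * w⁻¹ ∈ (As F).map f := by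
    intro a ha
    obtain ⟨z, hz, x, hx, rfl⟩ := C.sw.dec_A ha
    have : w * (z * x) * w⁻¹ = (w * z * w⁻¹) * (w * x * w⁻¹) := by group
    rw [this]
    exact mul_mem (Sw.XA f ((C.wZ z).1 hz)) (Sw.ZA f ((C.wX x).1 hx))
  have hwA' : ∀ a ∈ (As F).map f, ∃ b ∈ (As F).map f, a = w * b * w⁻¹ := by
    intro a ha
    obtain ⟨z, hz, x, hx, rfl⟩ := C.sw.dec_A ha
    have h1 : w⁻¹ * z * w ∈ (Xs F).map f := by
      rw [C.wX]
      have : w * (w⁻¹ * z * w) * w⁻¹ = z := by group
      rwa [this]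
    have h2 : w⁻¹ * x * w ∈ (Zs F).map f := by
      rw [C.wZ]
      have : w * (w⁻¹ * x * w) * w⁻¹ = x := by group
      rwa [this]
    exact ⟨(w⁻¹ * z * w) * (w⁻¹ * x * w), mul_mem (Sw.XA f h1) (Sw.ZA f h2), by group⟩
  have hwM := norm_M C.two C.three C.inj C.cent hwA' hwA
  -- the set `V`
  let V : Set G := {x | ∃ u : F, u ≠ 0 ∧ x = f (q 0 u 0)}
  have htq : ∀ u : F, f (ts F) * f (q 0 u 0) * f (ts F) = f (q 0 (-u) 0) := by
    intro u
    rw [← map_mul, ← map_mul]
    congr 1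
    have h00 : (ts F).A.1 0 0 = -1 := by
      show ((-1 : Matrix.SpecialLinearGroup (Fin 2) F)).1 0 0 = -1
      rw [neg_one_apply, sl_one00]
    have h01 : (ts F).A.1 0 1 = 0 := by
      show ((-1 : Matrix.SpecialLinearGroup (Fin 2) F)).1 0 1 = 0
      rw [neg_one_apply, sl_one01, neg_zero]
    have h10 : (ts F).A.1 1 0 = 0 := by
      show ((-1 : Matrix.SpecialLinearGroup (Fin 2) F)).1 1 0 = 0
      rw [neg_one_apply, sl_one10, neg_zero]
    have h11 : (ts F).A.1 1 1 = -1 := by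
      show ((-1 : Matrix.SpecialLinearGroup (Fin 2) F)).1 1 1 = -1
      rw [neg_one_apply, sl_one11]
    have hz : (ts F).z = 0 := rfl
    have hx : (ts F).x = 0 := rfl
    have hy : (ts F).y = 0 := rfl
    ext1
    · simp only [mul_z, mul_x, mul_y, mul_A, sl_mul, q, sl_one00, sl_one01, sl_one10, sl_one11, h00, h01, h10, h11, hz, hx, hy]
      ring
    · simp only [mul_z, mul_x, mul_y, mul_A, sl_mul, q, sl_one00, sl_one01, sl_one10, sl_one11, h00, h01, h10, h11, hz, hx, hy]
      ring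
    · simp only [mul_z, mul_x, mul_y, mul_A, sl_mul, q, sl_one00, sl_one01, sl_one10, sl_one11, h00, h01, h10, h11, hz, hx, hy]
      ring
    · simp only [mul_A, q, mul_one]
      show (-1 : Matrix.SpecialLinearGroup (Fin 2) F) * -1 = 1
      simp
  have hwV : ∀ x ∈ V, w * x * w⁻¹ ∈ V := by
    rintro _ ⟨u, hu, rfl⟩
    have hM : f (q 0 u 0) ∈ (Ms F).map f := ⟨_, ⟨rfl, 0, by rw [up_zero]; rfl⟩, rfl⟩
    obtain ⟨k, ⟨hky, r, hkr⟩, hk⟩ := hwM _ hM
    -- `t` inverts it
    have h1 : f (ts F) * f k * f (ts F) = (f k)⁻¹ := by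
      rw [hk]
      have h2 : f (ts F) * w = w * f (ts F) := C.wt.symm
      have h3 : w⁻¹ * f (ts F) = f (ts F) * w⁻¹ := by
        rw [inv_mul_eq_iff_eq_mul, ← mul_assoc, C.wt]; group
      have h5 : f (q 0 (-u) 0) = (f (q 0 u 0))⁻¹ := by
        rw [← map_inv, q_inv, neg_zero]
      calc f (ts F) * (w * f (q 0 u 0) * w⁻¹) * f (ts F)
          = (f (ts F) * w) * f (q 0 u 0) * (w⁻¹ * f (ts F)) := by group
        _ = (w * f (ts F)) * f (q 0 u 0) * (f (ts F) * w⁻¹) := by rw [h2, h3]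
        _ = w * (f (ts F) * f (q 0 u 0) * f (ts F)) * w⁻¹ := by group
        _ = (w * f (q 0 u 0) * w⁻¹)⁻¹ := by rw [htq, h5]; group
    rw [← map_inv, ← map_mul, ← map_mul] at h1
    have h2 := C.inj h1
    have h00 : (ts F).A.1 0 0 = -1 := by
      show ((-1 : Matrix.SpecialLinearGroup (Fin 2) F)).1 0 0 = -1
      rw [neg_one_apply, sl_one00]
    have h01 : (ts F).A.1 0 1 = 0 := by
      show ((-1 : Matrix.SpecialLinearGroup (Fin 2) F)).1 0 1 = 0
      rw [neg_one_apply, sl_one01, neg_zero]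
    have h10 : (ts F).A.1 1 0 = 0 := by
      show ((-1 : Matrix.SpecialLinearGroup (Fin 2) F)).1 1 0 = 0
      rw [neg_one_apply, sl_one10, neg_zero]
    have h11 : (ts F).A.1 1 1 = -1 := by
      show ((-1 : Matrix.SpecialLinearGroup (Fin 2) F)).1 1 1 = -1
      rw [neg_one_apply, sl_one11]
    have hz : (ts F).z = 0 := rfl
    have hx : (ts F).x = 0 := rfl
    have hy : (ts F).y = 0 := rfl
    have hr : r = 0 := by
      have h3 := congrArg (fun g : El F => g.A.1 0 1) h2
      simp only [mul_A, inv_A, sl_mul, hkr, up00, up01, up10, up11, h00, h01, h10, h11, sl_inv00, sl_inv01, sl_inv10, sl_inv11] at h3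
      have h6 : 2 * r = 0 := by linear_combination h3
      exact (mul_eq_zero.1 h6).resolve_left C.two
    rw [hr, up_zero] at hkr
    have hkz : k.z = 0 := by
      have h3 := congrArg El.z h2
      simp only [mul_z, mul_x, mul_y, mul_A, inv_z, inv_x, inv_y, inv_A, sl_mul, hkr, sl_one00, sl_one01, sl_one10,
        sl_one11, h00, h01, h10, h11, hz, hx, hy, hky] at h3
      have h6 : 2 * k.z = 0 := by linear_combination h3
      exact (mul_eq_zero.1 h6).resolve_left C.two
    have hkq : k = q 0 k.x 0 := by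
      ext1
      · exact hkz
      · rfl
      · exact hky
      · exact hkr
    refine ⟨k.x, ?_, ?_⟩
    · intro h0
      rw [h0] at hkq
      have h3 : f k = 1 := by
        rw [hkq]
        have : (q 0 0 0 : El F) = 1 := rfl
        rw [this, map_one]
      rw [hk] at h3
      have h5 : f (q 0 u 0) = 1 := by
        calc f (q 0 u 0) = w⁻¹ * (w * f (q 0 u 0) * w⁻¹) * w := by group
          _ = 1 := by rw [h3]; group
      rw [← map_one f] at h5
      exact hu (congrArg El.x (C.inj h5))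
    · rw [← hk, ← hkq]
  -- `⟨w⟩` normalises `V`
  have hzp : ∀ a ∈ zpowers w, ∀ x ∈ V, a * x * a⁻¹ ∈ V := by
    have hfin : Finite G := inferInstance
    have h1 : ∀ n : ℕ, ∀ x ∈ V, w ^ n * x * (w ^ n)⁻¹ ∈ V := by
      intro n
      induction n with
      | zero => intro x hx; simpa using hx
      | succ n ih =>
        intro x hx
        have : w ^ (n + 1) * x * (w ^ (n + 1))⁻¹ = w ^ n * (w * x * w⁻¹) * (w ^ n)⁻¹ := by
          rw [pow_succ]; group
        rw [this]
        exact ih _ (hwV x hx)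
    intro a ha x hx
    obtain ⟨n, rfl⟩ := (isOfFinOrder_of_finite w).mem_powers_iff_mem_zpowers.2 ha
    exact h1 n x hx
  let act : MulAction (zpowers w) V :=
    { smul := fun a x => ⟨a * x * (a : G)⁻¹, hzp a a.2 x x.2⟩
      one_smul := fun x => Subtype.ext (by show (1 : G) * x * 1⁻¹ = x; group)
      mul_smul := fun a b x => Subtype.ext (by
        show ((a * b : zpowers w) : G) * x * ((a * b : zpowers w) : G)⁻¹ = a * (b * x * (b : G)⁻¹) * (a : G)⁻¹
        rw [Subgroup.coe_mul]; group) }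
  have hdvd := card_dvd_of_free (A := zpowers w) (X := V) (by
    intro a x hax
    have h1 : (a : G) * x * (a : G)⁻¹ = x := congrArg Subtype.val hax
    have h2 : Commute (a : G) (x : G) := by
      show (a : G) * x = x * a
      calc (a : G) * x = (a * x * (a : G)⁻¹) * a := by group
        _ = x * a := by rw [h1]
    obtain ⟨u, hu, hx⟩ := x.2
    have h3 : ¬ Commute (f (ts F)) (x : G) := by
      intro h
      have h5 := htq u
      rw [← hx, h.eq, mul_assoc, htt, mul_one, hx] at h5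
      have h6 : u = -u := congrArg El.x (C.inj h5)
      have h7 : 2 * u = 0 := by linear_combination h6
      exact hu ((mul_eq_zero.1 h7).resolve_left C.two)
    obtain ⟨n, hn⟩ := mem_zpowers_iff.1 a.2
    have hw2 : w ^ (2 : ℤ) = f (ts F) := by rw [zpow_two, hww]
    have ht2 : (f (ts F)) ^ (2 : ℤ) = 1 := by rw [zpow_two, htt]
    rcases Int.even_or_odd' n with ⟨c, rfl | rfl⟩
    · rw [zpow_mul, hw2] at hn
      rcases Int.even_or_odd' c with ⟨d, rfl | rfl⟩
      · rw [zpow_mul, ht2, one_zpow] at hn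
        exact Subtype.ext hn.symm
      · exfalso
        rw [zpow_add, zpow_mul, ht2, one_zpow, one_mul, zpow_one] at hn
        rw [← hn] at h2
        exact h3 h2
    · exfalso
      have h5 : Commute ((a : G) ^ (2 : ℤ)) (x : G) := h2.zpow_left 2
      rw [← hn, ← zpow_mul, mul_comm (2 * c + 1) 2, zpow_mul, hw2, zpow_add, zpow_mul, ht2, one_zpow, one_mul,
        zpow_one] at h5
      exact h3 h5)
  have hcard1 : Nat.card (zpowers w) = 4 := by
    rw [Nat.card_zpowers]
    have h1 : orderOf w ∣ 4 := by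
      apply orderOf_dvd_of_pow_eq_one
      have : w ^ 4 = (w * w) * (w * w) := by rw [← pow_two, ← pow_two, ← pow_mul]
      rw [this, hww, htt]
    have h2 : ¬ orderOf w ∣ 2 := by
      intro h
      have := orderOf_dvd_iff_pow_eq_one.1 h
      rw [pow_two, hww] at this
      exact ht1 this
    have h3 : orderOf w ≤ 4 := Nat.le_of_dvd (by norm_num) h1
    interval_cases h : orderOf w <;> simp_all
  have hcard2 : Nat.card V = 3 ^ m - 1 := by
    have e : {u : F // u ≠ 0} ≃ V := Equiv.ofBijective (fun u => ⟨f (q 0 u.1 0), u.1, u.2, rfl⟩) ⟨by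
      rintro ⟨u, hu⟩ ⟨u', hu'⟩ h
      have h1 := congrArg Subtype.val h
      have h2 : u = u' := congrArg El.x (C.inj h1)
      exact Subtype.ext h2, by
      rintro ⟨_, u, hu, rfl⟩
      exact ⟨⟨u, hu⟩, rfl⟩⟩
    classical
    rw [← Nat.card_congr e, Nat.card_eq_fintype_card, Fintype.card_subtype_compl, Fintype.card_subtype_eq, hF]
  rw [hcard1, hcard2] at hdvd
  omega

/-- **the swap can be chosen an involution** -/
theorem exists_invol (C : Ctx f w π) [Finite G] [Fintype F] {m : ℕ} (hm3 : 3 ≤ m) (hF : Fintype.card F = 3 ^ m)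
    (h4 : 3 ^ m % 4 = 3) (hS : Star.{u}) : ∃ w' : G, Ctx f w' π ∧ w' * w' = 1 := by
  obtain ⟨w', C', h⟩ := C.sq_form hm3 hF h4 hS
  exact ⟨w', C', h.resolve_right (C'.sq_ne_t hF h4)⟩

end Ctx

end Cfsg.Agent.H334.Sp4
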