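import Cfsg.Agent.H334.Sp4.Base

/-!
# The hypothesis `Sw f` from the hypotheses of S3241
-/

set_option autoImplicit false
set_option linter.unusedSectionVars false
set_option linter.unusedVariables false
set_option linter.unusedSimpArgs false

universe u v

open Subgroup

namespace Cfsg.Agent.H334.Sp4

open Cfsg.Agent.H339 Cfsg.Agent.H334.Symp Cfsg.Agent.H334.Symp.El

/-- The working hypothesis. -/
structure Sw {G : Type u} {F : Type v} [Group G] [Field F] (f : El F →* G) : Prop where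
  inj : Function.Injective f
  cent : ∀ v : F, v ≠ 0 → ∀ g : G, g * f (q v 0 0) = f (q v 0 0) * g → ∃ k, f k = g
  swap : ∃ w : G, w * f (ts F) = f (ts F) * w ∧ (∀ x, x ∈ (Zs F).map f ↔ w * x * w⁻¹ ∈ (Xs F).map f) ∧
    (∀ x, x ∈ (Xs F).map f ↔ w * x * w⁻¹ ∈ (Zs F).map f)
  nm : ∀ g : G, g * f (ts F) = f (ts F) * g → (∀ a ∈ (As F).map f, g * a * g⁻¹ ∈ (As F).map f) →
    (∀ x ∈ (Zs F).map f, g * x * g⁻¹ ∈ (Zs F).map f) ∨ (∀ x ∈ (Zs F).map f, g * x * g⁻¹ ∈ (Xs F).map f)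
  inv : ∀ v : F, v ≠ 0 → ∀ g : G, g * f (q v 0 0) * g⁻¹ ≠ f (q (-v) 0 0)

section

variable {G : Type u} {F : Type v} [Group G] [Field F] {f : El F →* G}

theorem centA (inj : Function.Injective f)
    (cent : ∀ v : F, v ≠ 0 → ∀ g : G, g * f (q v 0 0) = f (q v 0 0) * g → ∃ k, f k = g) {g : G}
    (hg : ∀ a ∈ (As F).map f, g * a = a * g) :
    ∃ k, f k = g ∧ k.y = 0 ∧ k.A.1 1 0 = 0 ∧ k.A.1 0 0 = k.A.1 1 1 := by
  obtain ⟨k, rfl⟩ := cent 1 one_ne_zero g (hg _ ⟨_, Zs_le_As (mem_Zs'.2 ⟨1, rfl⟩), rfl⟩)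
  have h1 := hg _ ⟨_, Xs_le_As (mem_Xs'.2 ⟨1, rfl⟩), rfl⟩
  rw [← map_mul, ← map_mul] at h1
  have h2 := inj h1
  have hx := congrArg El.x h2
  have hA := congrArg El.A h2
  simp only [mul_x, emb_x, emb_y, emb_A, up00, up01] at hx
  rw [mul_A, mul_A, emb_A] at hA
  have h00 := congrArg (fun B : Matrix.SpecialLinearGroup (Fin 2) F => B.1 0 0) hA
  have h01 := congrArg (fun B : Matrix.SpecialLinearGroup (Fin 2) F => B.1 0 1) hA
  simp only [sl_mul, up00, up01, up10, up11] at h00 h01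
  refine ⟨k, rfl, ?_, ?_, ?_⟩
  · linear_combination -hx
  · linear_combination -h00
  · linear_combination h01

/-- elements commuting with `t` and normalising `A` normalise `M` -/
theorem norm_M (h2F : (2 : F) ≠ 0) (h3 : (3 : F) = 0) (inj : Function.Injective f)
    (cent : ∀ v : F, v ≠ 0 → ∀ g : G, g * f (q v 0 0) = f (q v 0 0) * g → ∃ k, f k = g) {g : G}
    (hgA : ∀ a ∈ (As F).map f, ∃ b ∈ (As F).map f, a = g * b * g⁻¹)
    (hgA' : ∀ a ∈ (As F).map f, g * a * g⁻¹ ∈ (As F).map f) :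
    ∀ x ∈ (Ms F).map f, g * x * g⁻¹ ∈ (Ms F).map f := by
  -- `M = A V`
  have hV : ∀ u : F, g * f (q 0 u 0) * g⁻¹ ∈ (Ms F).map f := by
    intro u
    have hqM : q 0 u 0 ∈ Ms F := ⟨rfl, 0, by rw [up_zero]; rfl⟩
    have h1 : ∀ a ∈ (As F).map f, (g * f (q 0 u 0) * g⁻¹) * a = a * (g * f (q 0 u 0) * g⁻¹) := by
      intro a ha
      obtain ⟨b, hb, rfl⟩ := hgA a ha
      obtain ⟨b, hb, rfl⟩ := hb
      have h2 : q 0 u 0 * b = b * q 0 u 0 := Ms_comm hqM ⟨hb.2.1, hb.2.2⟩
      have h3 : f (q 0 u 0) * f b = f b * f (q 0 u 0) := by rw [← map_mul, h2, map_mul]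
      calc g * f (q 0 u 0) * g⁻¹ * (g * f b * g⁻¹) = g * (f (q 0 u 0) * f b) * g⁻¹ := by group
        _ = g * (f b * f (q 0 u 0)) * g⁻¹ := by rw [h3]
        _ = g * f b * g⁻¹ * (g * f (q 0 u 0) * g⁻¹) := by group
    obtain ⟨k, hk, hy, h10, h00⟩ := centA inj cent h1
    have h2 : k ^ 3 = 1 := by
      apply inj
      rw [map_pow, hk, conj_pow, ← map_pow, Ms_pow h3 hqM]
      simp
    -- `k.A = up s`
    have hdet := det_eq k.A
    have hA3 : (k.A.1 0 0) ^ 3 = 1 := by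
      have h4 : k.A ^ 3 = 1 := by
        have := congrArg (mat F) h2
        rw [map_pow, map_one] at this
        exact this
      have h5 := congrArg (fun B : Matrix.SpecialLinearGroup (Fin 2) F => B.1 0 0) h4
      have h6 : k.A ^ 3 = k.A * k.A * k.A := by rw [pow_succ, pow_two]
      simp only [h6, sl_mul, sl_one00, h10] at h5
      linear_combination h5
    have hA2 : (k.A.1 0 0) ^ 2 = 1 := by
      rw [h10, ← h00] at hdet
      linear_combination hdet
    have hA1 : k.A.1 0 0 = 1 := by linear_combination hA3 - k.A.1 0 0 * hA2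
    refine ⟨k, ⟨hy, k.A.1 0 1, ?_⟩, hk⟩
    apply sl_ext
    · rw [up00, hA1]
    · rw [up01]
    · rw [up10, h10]
    · rw [up11, ← h00, hA1]
  rintro _ ⟨k, ⟨hy, r, hr⟩, rfl⟩
  have h1 : k = (q k.z 0 0 * emb F (up r)) * q 0 k.x 0 := by
    ext1
    · simp [q, up00, up01, up10, up11]
    · simp [q, up00, up01, up10, up11]
    · simp [q, up00, up01, up10, up11, hy]
    · simp [q, hr]
  rw [h1, map_mul]
  have h2 : g * (f (q k.z 0 0 * emb F (up r)) * f (q 0 k.x 0)) * g⁻¹ =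
      (g * f (q k.z 0 0 * emb F (up r)) * g⁻¹) * (g * f (q 0 k.x 0) * g⁻¹) := by group
  rw [h2]
  refine ((Ms F).map f).mul_mem ?_ (hV _)
  obtain ⟨b, hb, hb'⟩ := hgA' _ ⟨_, mem_As'.2 ⟨k.z, r, rfl⟩, rfl⟩
  rw [← hb']
  exact ⟨b, ⟨hb.2.1, hb.2.2⟩, rfl⟩

end

theorem exists_sw {G : Type u} [Group G] [Finite G] {F : Type v} [Field F] [Fintype F] (m : ℕ) (hm : Odd m)
    (hm1 : 1 < m) (hF : Fintype.card F = 3 ^ m) (h2F : (2 : F) ≠ 0) (h3 : (3 : F) = 0)
    (hc : ∃ (P Q : Sylow 3 G) (a b : G), orderOf a = 3 ∧ orderOf b = 3 ∧ a ∈ (P : Subgroup G) ∧ b ∈ (Q : Subgroup G) ∧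
      (∀ p ∈ (P : Subgroup G), p * a = a * p) ∧ (∀ q ∈ (Q : Subgroup G), q * b = b * q) ∧ ¬ IsConj a b)
    (f : El F →* G) (hf : Function.Injective f)
    (S : Setup f.range ((El.Zs F).map f) ((El.Qs F).map f) ((El.Ps F).map f) ((El.Ms F).map f) ((El.Ds F).map f)
        (f (El.ts F)))
    (hnp : ¬ normalizer (((El.Ms F).map f : Subgroup G) : Set G) ≤ normalizer (((El.Ps F).map f : Subgroup G) : Set G)) :
    Sw f := by
  have h3p : Fact (Nat.Prime 3) := ⟨Nat.prime_three⟩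
  have h4 : 3 ^ m % 4 = 3 := by
    obtain ⟨k, rfl⟩ := hm
    rw [pow_succ, pow_mul]
    have : 9 ^ k % 4 = 1 := by
      rw [Nat.pow_mod]; norm_num
    norm_num
    omega
  have h5 : 3 < 3 ^ m := by
    calc 3 = 3 ^ 1 := by norm_num
      _ < 3 ^ m := Nat.pow_lt_pow_right (by norm_num) hm1
  have hcent : ∀ v : F, v ≠ 0 → ∀ g : G, g * f (q v 0 0) = f (q v 0 0) * g → ∃ k, f k = g := by
    intro v hv g hg
    have h6 : f (q v 0 0) ∈ (Zs F).map f := ⟨_, mem_Zs'.2 ⟨v, rfl⟩, rfl⟩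
    have h7 : f (q v 0 0) ≠ 1 := by
      intro h8
      rw [← map_one f] at h8
      exact hv (congrArg El.z (hf h8))
    exact (S.cent _ h6 h7 g).2 hg
  obtain ⟨T, hT⟩ := S.exists_sylow
  -- the swap
  have hKc : ∀ v, v ≠ 0 → ∀ g, (∀ y ∈ (coG f hf).M, g * y * g⁻¹ ∈ (coG f hf).M) →
      g * (coG f hf).d v = (coG f hf).d v * g →
      ∃ t u v' s r, g = (coG f hf).m t u v' * (coG f hf).a s * (coG f hf).h r := by
    intro v hv g hgM hg
    rw [coG_d] at hg
    obtain ⟨k, rfl⟩ := hcent v hv g hg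
    rw [coG_M] at hgM
    obtain ⟨k', ⟨hy', s', hs'⟩, hk'⟩ := hgM (f (emb F (up 1))) ⟨_, ⟨rfl, 1, rfl⟩, rfl⟩
    rw [← map_mul, ← map_inv, ← map_mul] at hk'
    have h6 := hf hk'
    have h7 := congrArg El.A h6
    rw [mul_A, mul_A, inv_A, emb_A, hs'] at h7
    have h8 := congrArg (fun B : Matrix.SpecialLinearGroup (Fin 2) F => B.1 1 0) h7
    simp only [sl_mul, up00, up01, up10, up11, sl_inv00, sl_inv10] at h8
    have h10 : k.A.1 1 0 = 0 := by
      have : k.A.1 1 0 * k.A.1 1 0 = 0 := by linear_combination h8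
      exact mul_self_eq_zero.1 this
    have hdet := det_eq k.A
    rw [h10, mul_zero, sub_zero] at hdet
    have hr0 : k.A.1 0 0 ≠ 0 := by
      intro h; rw [h, zero_mul] at hdet; exact zero_ne_one hdet
    let r : Fˣ := Units.mk0 (k.A.1 0 0) hr0
    have hr : (r : F) = k.A.1 0 0 := rfl
    have hr' : ((↑r⁻¹ : F)) = k.A.1 1 1 := by
      rw [Units.val_inv_eq_inv_val, hr]
      field_simp
      linear_combination -hdet
    refine ⟨k.A.1 0 1 * k.A.1 0 0, k.x - (k.A.1 0 1 * k.A.1 0 0) * k.y,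
      k.z - k.y * (k.x - (k.A.1 0 1 * k.A.1 0 0) * k.y), -k.y, r, ?_⟩
    rw [coG_m, coG_a, coG_h, ← map_mul, ← map_mul]
    congr 1
    ext1
    · simp [up00, up01, up10, up11]; ring
    · simp [up00, up01, up10, up11]
    · simp [up00, up01, up10, up11]
    · apply sl_ext
      · simp only [mul_A, emb_A, sl_mul, up00, up01, up10, up11, dg00, dg01, dg10, dg11, sl_one00, sl_one01, sl_one10,
          sl_one11, hr]
        ring
      · simp only [mul_A, emb_A, sl_mul, up00, up01, up10, up11, dg00, dg01, dg10, dg11, sl_one00, sl_one01, sl_one10,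
          sl_one11, hr']
        linear_combination (-k.A.1 0 1) * hdet
      · simp only [mul_A, emb_A, sl_mul, up00, up01, up10, up11, dg00, dg01, dg10, dg11, sl_one00, sl_one01, sl_one10,
          sl_one11, h10]
        ring
      · simp only [mul_A, emb_A, sl_mul, up00, up01, up10, up11, dg00, dg01, dg10, dg11, sl_one00, sl_one01, sl_one10,
          sl_one11, hr']
        ring
  have hc' : ∃ (u v : G) (Pu Pv : Sylow 3 G), orderOf u = 3 ∧ orderOf v = 3 ∧
      u ∈ (Pu : Subgroup G) ∧ (∀ y ∈ (Pu : Subgroup G), y * u = u * y) ∧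
      v ∈ (Pv : Subgroup G) ∧ (∀ y ∈ (Pv : Subgroup G), y * v = v * y) ∧ ∀ g : G, g * u * g⁻¹ ≠ v := by
    obtain ⟨P, Q, a, b, h1, h2, h3, h4, h5, h6, h7⟩ := hc
    exact ⟨a, b, P, Q, h1, h2, h3, h5, h4, h6, fun g hg => h7 (isConj_iff.2 ⟨g, hg⟩)⟩
  obtain ⟨⟨n, hn, hn1, hn2⟩, hpt⟩ := exists_swap (p := 3) (n := m) (by norm_num) (by omega) h4 h5 hF h2F (coG f hf) hKc
    hc' T (by rw [coG_P, hT]) (by rw [coG_M, coG_P]; exact hnp)
  rw [coG_Z, coG_X] at hn1 hn2
  simp only [coG_M, coG_Z, coG_X, coG_D] at hpt hn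
  have hnZ : ∀ x, x ∈ (Zs F).map f ↔ n * x * n⁻¹ ∈ (Xs F).map f := by
    intro x
    rw [← hn1, mem_cj]
    have : n⁻¹ * (n * x * n⁻¹) * n = x := by group
    rw [this]
  have hnX : ∀ x, x ∈ (Xs F).map f ↔ n * x * n⁻¹ ∈ (Zs F).map f := by
    intro x
    rw [← hn2, mem_cj]
    have : n⁻¹ * (n * x * n⁻¹) * n = x := by group
    rw [this]
  -- `n⁻¹ t n` centralises `A`
  have hAdec : ∀ a ∈ (As F).map f, ∃ z ∈ (Zs F).map f, ∃ x ∈ (Xs F).map f, a = z * x := by
    rintro _ ⟨k, hk, rfl⟩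
    obtain ⟨v, s, rfl⟩ := mem_As'.1 hk
    exact ⟨_, ⟨_, mem_Zs'.2 ⟨v, rfl⟩, rfl⟩, _, ⟨_, mem_Xs'.2 ⟨s, rfl⟩, rfl⟩, map_mul _ _ _⟩
  have hZA : (Zs F).map f ≤ (As F).map f := map_mono Zs_le_As
  have hXA : (Xs F).map f ≤ (As F).map f := map_mono Xs_le_As
  have hnA : ∀ a ∈ (As F).map f, n * a * n⁻¹ ∈ (As F).map f := by
    intro a ha
    obtain ⟨z, hz, x, hx, rfl⟩ := hAdec a ha
    have : n * (z * x) * n⁻¹ = (n * z * n⁻¹) * (n * x * n⁻¹) := by group
    rw [this]
    exact ((As F).map f).mul_mem (hXA ((hnZ z).1 hz)) (hZA ((hnX x).1 hx))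
  have htA : ∀ a ∈ (As F).map f, f (ts F) * a = a * f (ts F) := by
    rintro _ ⟨k, hk, rfl⟩
    rw [← map_mul, ← map_mul, (ts_comm_iff h2F).2 ⟨hk.1, hk.2.1⟩]
  have ht1 : ∀ a ∈ (As F).map f, (n⁻¹ * f (ts F) * n) * a = a * (n⁻¹ * f (ts F) * n) := by
    intro a ha
    have h6 := htA _ (hnA a ha)
    calc (n⁻¹ * f (ts F) * n) * a = n⁻¹ * (f (ts F) * (n * a * n⁻¹)) * n := by group
      _ = n⁻¹ * ((n * a * n⁻¹) * f (ts F)) * n := by rw [h6]
      _ = a * (n⁻¹ * f (ts F) * n) := by group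
  obtain ⟨k, hk, hky, hk10, hk00⟩ := centA hf hcent ht1
  have hk2 : k * k = 1 := by
    apply hf
    rw [map_mul, hk, map_one]
    have : n⁻¹ * f (ts F) * n * (n⁻¹ * f (ts F) * n) = n⁻¹ * (f (ts F) * f (ts F)) * n := by group
    rw [this, ← map_mul, ts_sq, map_one]; group
  have hk1 : k ≠ 1 := by
    rintro rfl
    rw [map_one] at hk
    have h6 : f (ts F) = 1 := by
      calc f (ts F) = n * (n⁻¹ * f (ts F) * n) * n⁻¹ := by group
        _ = 1 := by rw [← hk]; group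
    rw [← map_one f] at h6
    have h7 := hf h6
    have h8 := orderOf_ts h2F (F := F)
    rw [h7, orderOf_one] at h8
    norm_num at h8
  have hdet := det_eq k.A
  rw [hk10, ← hk00, mul_zero, sub_zero] at hdet
  have hkA2 := congrArg El.A hk2
  rw [mul_A, one_A] at hkA2
  have hk01 : k.A.1 0 1 = 0 := by
    have h6 := congrArg (fun B : Matrix.SpecialLinearGroup (Fin 2) F => B.1 0 1) hkA2
    simp only [sl_mul, sl_one01] at h6
    rw [← hk00] at h6
    have h7 : k.A.1 0 0 ≠ 0 := by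
      intro h; rw [h, zero_mul] at hdet; exact zero_ne_one hdet
    have h8 : (2 * k.A.1 0 0) * k.A.1 0 1 = 0 := by linear_combination h6
    rcases mul_eq_zero.1 h8 with h | h
    · exact absurd h (mul_ne_zero h2F h7)
    · exact h
  have hka : k.A.1 0 0 = -1 := by
    rcases mul_self_eq_one_iff.1 hdet with h | h
    · exfalso
      apply hk1
      have hA1 : k.A = 1 := by
        apply sl_ext
        · rw [h, sl_one00]
        · rw [hk01, sl_one01]
        · rw [hk10, sl_one10]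
        · rw [← hk00, h, sl_one11]
      have h6 := Qs_pow h3 (mem_Qs.2 hA1)
      calc k = k ^ 3 * (k * k)⁻¹ := by rw [pow_succ, pow_two]; group
        _ = 1 := by rw [h6, hk2]; group
    · exact h
  have hkz : k.z = 0 := by
    have h6 := congrArg El.z hk2
    simp only [mul_z, one_z, hky, hk10] at h6
    have h7 : (2 : F) * k.z = 0 := by linear_combination h6
    exact (mul_eq_zero.1 h7).resolve_left h2F
  -- `k = c t c⁻¹`
  have hkc : f k = f (q 0 (k.x / 2) 0) * f (ts F) * (f (q 0 (k.x / 2) 0))⁻¹ := by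
    rw [← map_mul, ← map_inv, ← map_mul]
    congr 1
    have hts00 : (ts F).A.1 0 0 = -1 := by
      show ((-1 : Matrix.SpecialLinearGroup (Fin 2) F)).1 0 0 = -1
      rw [neg_one_apply, sl_one00]
    have hts01 : (ts F).A.1 0 1 = 0 := by
      show ((-1 : Matrix.SpecialLinearGroup (Fin 2) F)).1 0 1 = 0
      rw [neg_one_apply, sl_one01, neg_zero]
    have hts10 : (ts F).A.1 1 0 = 0 := by
      show ((-1 : Matrix.SpecialLinearGroup (Fin 2) F)).1 1 0 = 0
      rw [neg_one_apply, sl_one10, neg_zero]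
    have hts11 : (ts F).A.1 1 1 = -1 := by
      show ((-1 : Matrix.SpecialLinearGroup (Fin 2) F)).1 1 1 = -1
      rw [neg_one_apply, sl_one11]
    have htz : (ts F).z = 0 := rfl
    have htx : (ts F).x = 0 := rfl
    have hty : (ts F).y = 0 := rfl
    ext1
    · rw [q_inv]
      simp only [mul_z, mul_x, mul_y, mul_A, sl_mul, q, sl_one00, sl_one01, sl_one10, sl_one11, hts00, hts01, hts10, hts11,
        htz, htx, hty, hkz]
      ring
    · rw [q_inv]
      simp only [mul_z, mul_x, mul_y, mul_A, sl_mul, q, sl_one00, sl_one01, sl_one10, sl_one11, hts00, hts01, hts10, hts11,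
        htz, htx, hty, hkz]
      field_simp
      ring
    · rw [q_inv]
      simp only [mul_z, mul_x, mul_y, mul_A, sl_mul, q, sl_one00, sl_one01, sl_one10, sl_one11, hts00, hts01, hts10, hts11,
        htz, htx, hty, hkz, hky]
      ring
    · rw [q_inv]
      apply sl_ext
      · simp only [mul_A, sl_mul, q, sl_one00, sl_one01, sl_one10, sl_one11, hts00, hts01, hts10, hts11, hka]
        ring
      · simp only [mul_A, sl_mul, q, sl_one00, sl_one01, sl_one10, sl_one11, hts00, hts01, hts10, hts11, hk01]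
        ring
      · simp only [mul_A, sl_mul, q, sl_one00, sl_one01, sl_one10, sl_one11, hts00, hts01, hts10, hts11, hk10]
        ring
      · simp only [mul_A, sl_mul, q, sl_one00, sl_one01, sl_one10, sl_one11, hts00, hts01, hts10, hts11, ← hk00, hka]
        ring
  set c : G := f (q 0 (k.x / 2) 0) with hcdef
  have hcA : ∀ a ∈ (As F).map f, c * a * c⁻¹ = a := by
    rintro _ ⟨b, hb, rfl⟩
    have h6 : q 0 (k.x / 2) 0 * b = b * q 0 (k.x / 2) 0 := by
      apply Ms_comm (F := F)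
      · exact ⟨rfl, 0, by rw [up_zero]; rfl⟩
      · exact ⟨hb.2.1, hb.2.2⟩
    rw [hcdef, ← map_mul, h6, map_mul, mul_inv_cancel_right]
  refine ⟨hf, hcent, ⟨n * c, ?_, ?_, ?_⟩, ?_, ?_⟩
  · have h6 : n⁻¹ * f (ts F) * n = c * f (ts F) * c⁻¹ := by rw [← hk]; exact hkc
    calc n * c * f (ts F) = n * (c * f (ts F) * c⁻¹) * c := by group
      _ = n * (n⁻¹ * f (ts F) * n) * c := by rw [h6]
      _ = f (ts F) * (n * c) := by group
  · intro x
    constructor
    · intro hx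
      have : n * c * x * (n * c)⁻¹ = n * (c * x * c⁻¹) * n⁻¹ := by group
      rw [this, hcA x (hZA hx)]
      exact (hnZ x).1 hx
    · intro hx
      have e6 : n * c * x * (n * c)⁻¹ = n * (c * x * c⁻¹) * n⁻¹ := by group
      rw [e6, ← hnZ] at hx
      have h7 := hcA _ (hZA hx)
      have h8 : c * x * c⁻¹ = x := by
        have h9 : c⁻¹ * (c * (c * x * c⁻¹) * c⁻¹) * c = c⁻¹ * (c * x * c⁻¹) * c := by rw [h7]
        have e1 : c⁻¹ * (c * (c * x * c⁻¹) * c⁻¹) * c = c * x * c⁻¹ := by group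
        have e2 : c⁻¹ * (c * x * c⁻¹) * c = x := by group
        rw [e1, e2] at h9
        exact h9
      rwa [h8] at hx
  · intro x
    constructor
    · intro hx
      have : n * c * x * (n * c)⁻¹ = n * (c * x * c⁻¹) * n⁻¹ := by group
      rw [this, hcA x (hXA hx)]
      exact (hnX x).1 hx
    · intro hx
      have e6 : n * c * x * (n * c)⁻¹ = n * (c * x * c⁻¹) * n⁻¹ := by group
      rw [e6, ← hnX] at hx
      have h7 := hcA _ (hXA hx)
      have h8 : c * x * c⁻¹ = x := by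
        have h9 : c⁻¹ * (c * (c * x * c⁻¹) * c⁻¹) * c = c⁻¹ * (c * x * c⁻¹) * c := by rw [h7]
        have e1 : c⁻¹ * (c * (c * x * c⁻¹) * c⁻¹) * c = c * x * c⁻¹ := by group
        have e2 : c⁻¹ * (c * x * c⁻¹) * c = x := by group
        rw [e1, e2] at h9
        exact h9
      rwa [h8] at hx
  · -- the points in `A`
    intro g hgt hgA
    have hgA' : ∀ a ∈ (As F).map f, ∃ b ∈ (As F).map f, a = g * b * g⁻¹ := by
      have h6 := Cfsg.Agent.H334.Symp.mem_normalizer_of_conj_le hgA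
      intro a ha
      refine ⟨g⁻¹ * a * g, ?_, by group⟩
      rw [mem_normalizer_iff] at h6
      rw [h6]
      have : g * (g⁻¹ * a * g) * g⁻¹ = a := by group
      rwa [this]
    have hgM := norm_M h2F h3 hf hcent hgA' hgA
    have hgN := Cfsg.Agent.H334.Symp.mem_normalizer_of_conj_le hgM
    have h6 : cj g ((Zs F).map f) ≤ (As F).map f := by
      intro x hx
      rw [mem_cj] at hx
      have h7 := hgA _ (hZA hx)
      have : g * (g⁻¹ * x * g) * g⁻¹ = x := by group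
      rwa [this] at h7
    rcases hpt g hgN h6 with h7 | h7
    · left
      intro x hx
      rw [← h7]
      exact conj_mem_cj hx
    · right
      intro x hx
      rw [← h7]
      exact conj_mem_cj hx
  · -- no inversion
    intro v hv g hg
    have hm1 : ¬ IsSquare (-1 : F) := by
      rw [FiniteField.isSquare_neg_one_iff, hF]
      exact fun h => h h4
    -- conjugacy in `Z`
    have key : ∀ v₁ v₂ : F, v₁ ≠ 0 → v₂ ≠ 0 → ∃ g : G, g * f (q v₁ 0 0) * g⁻¹ = f (q v₂ 0 0) ∨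
        g * f (q v₁ 0 0) * g⁻¹ = f (q (-v₂) 0 0) := by
      intro v₁ v₂ h₁ h₂
      have hZ : ∀ v : F, v ≠ 0 → ∃ s : F, s ≠ 0 ∧ n * f (q v 0 0) * n⁻¹ = f (emb F (up s)) := by
        intro v hv
        obtain ⟨k, hk, hk'⟩ := (hnZ (f (q v 0 0))).1 ⟨_, mem_Zs'.2 ⟨v, rfl⟩, rfl⟩
        obtain ⟨s, rfl⟩ := mem_Xs'.1 hk
        refine ⟨s, ?_, hk'.symm⟩
        rintro rfl
        rw [up_zero, map_one, map_one] at hk'
        have h6 : f (q v 0 0) = 1 := by
          calc f (q v 0 0) = n⁻¹ * (n * f (q v 0 0) * n⁻¹) * n := by group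
            _ = 1 := by rw [← hk']; group
        rw [← map_one f] at h6
        exact hv (congrArg El.z (hf h6))
      obtain ⟨s₁, hs₁, e₁⟩ := hZ v₁ h₁
      obtain ⟨s₂, hs₂, e₂⟩ := hZ v₂ h₂
      have hconj : ∀ (r : Fˣ) (s : F), f (emb F (dg r)) * f (emb F (up s)) * (f (emb F (dg r)))⁻¹ =
          f (emb F (up ((r : F) * r * s))) := by
        intro r s
        rw [← map_inv, ← map_mul, ← map_mul, ← map_inv, ← map_mul, ← map_mul]
        congr 2
        have := r.ne_zero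
        apply sl_ext
        · simp only [sl_mul, dg00, dg01, dg10, dg11, up00, up01, up10, up11, sl_inv00, sl_inv01, sl_inv10, sl_inv11,
            Units.val_inv_eq_inv_val]
          field_simp
          ring
        · simp only [sl_mul, dg00, dg01, dg10, dg11, up00, up01, up10, up11, sl_inv00, sl_inv01, sl_inv10, sl_inv11,
            Units.val_inv_eq_inv_val]
          ring
        · simp only [sl_mul, dg00, dg01, dg10, dg11, up00, up01, up10, up11, sl_inv00, sl_inv01, sl_inv10, sl_inv11,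
            Units.val_inv_eq_inv_val]
          ring
        · simp only [sl_mul, dg00, dg01, dg10, dg11, up00, up01, up10, up11, sl_inv00, sl_inv01, sl_inv10, sl_inv11,
            Units.val_inv_eq_inv_val]
          field_simp
          ring
      rcases sq_or_neg h2F hm1 (Units.mk0 s₂ hs₂ / Units.mk0 s₁ hs₁) with ⟨r, hr⟩ | ⟨r, hr⟩
      · have hr' : s₂ = (r : F) * r * s₁ := by
          have := congrArg (fun x : Fˣ => (x : F)) hr
          simp only [Units.val_div_eq_div_val, Units.val_mk0, Units.val_mul] at this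
          rw [← this]; field_simp
        refine ⟨n⁻¹ * f (emb F (dg r)) * n, Or.inl ?_⟩
        have : n⁻¹ * f (emb F (dg r)) * n * f (q v₁ 0 0) * (n⁻¹ * f (emb F (dg r)) * n)⁻¹ =
          n⁻¹ * (f (emb F (dg r)) * (n * f (q v₁ 0 0) * n⁻¹) * (f (emb F (dg r)))⁻¹) * n := by group
        rw [this, e₁, hconj, ← hr', ← e₂]
        group
      · have hr' : -s₂ = (r : F) * r * s₁ := by
          have := congrArg (fun x : Fˣ => (x : F)) hr
          simp only [Units.val_neg, Units.val_div_eq_div_val, Units.val_mk0, Units.val_mul] at this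
          rw [← this]; field_simp
        refine ⟨n⁻¹ * f (emb F (dg r)) * n, Or.inr ?_⟩
        have e6 : n⁻¹ * f (emb F (dg r)) * n * f (q v₁ 0 0) * (n⁻¹ * f (emb F (dg r)) * n)⁻¹ =
          n⁻¹ * (f (emb F (dg r)) * (n * f (q v₁ 0 0) * n⁻¹) * (f (emb F (dg r)))⁻¹) * n := by group
        have e7 : f (emb F (up (-s₂))) = n * f (q (-v₂) 0 0) * n⁻¹ := by
          have h6 : q (-v₂) 0 0 = (q v₂ 0 0)⁻¹ := by rw [q_inv, neg_zero]
          rw [up_neg, map_inv, map_inv, ← e₂, h6, map_inv]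
          group
        rw [e6, e₁, hconj, ← hr', e7]
        group
    have hneg : ∀ v : F, f (q (-v) 0 0) = (f (q v 0 0))⁻¹ := by
      intro v
      have h6 : q (-v) 0 0 = (q v 0 0)⁻¹ := by rw [q_inv, neg_zero]
      rw [h6, map_inv]
    have hall : ∀ v₂ : F, v₂ ≠ 0 → IsConj (f (q v 0 0)) (f (q v₂ 0 0)) := by
      intro v₂ hv₂
      obtain ⟨g', h6 | h6⟩ := key v v₂ hv hv₂
      · exact isConj_iff.2 ⟨g', h6⟩
      · refine isConj_iff.2 ⟨g' * g⁻¹, ?_⟩
        have h7 : g⁻¹ * f (q v 0 0) * g = f (q (-v) 0 0) := by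
          have h8 : g⁻¹ * f (q (-v) 0 0) * g = f (q v 0 0) := by rw [← hg]; group
          rw [hneg] at h8 ⊢
          have h9 := congrArg (fun y => y⁻¹) h8
          simp only [mul_inv_rev, inv_inv] at h9
          rw [← h9]; group
        have e6 : g' * g⁻¹ * f (q v 0 0) * (g' * g⁻¹)⁻¹ = g' * (g⁻¹ * f (q v 0 0) * g) * g'⁻¹ := by group
        rw [e6, h7, hneg]
        have h9 := congrArg (fun y => y⁻¹) h6
        simp only [mul_inv_rev, inv_inv] at h9
        rw [hneg, inv_inv] at h9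
        rw [← h9]; group
    obtain ⟨a, b, Pa, Pb, ha, hb, haP, haC, hbP, hbC, hab⟩ := hc'
    obtain ⟨g1, w1, hw1, e1⟩ := exists_conj_d h2F (coG f hf) T (by rw [coG_P, hT]) a Pa ha haP haC
    obtain ⟨g2, w2, hw2, e2⟩ := exists_conj_d h2F (coG f hf) T (by rw [coG_P, hT]) b Pb hb hbP hbC
    rw [coG_d] at e1 e2
    have h6 : IsConj a b := by
      have h7 : IsConj a (f (q w1 0 0)) := isConj_iff.2 ⟨g1, e1⟩
      have h8 : IsConj b (f (q w2 0 0)) := isConj_iff.2 ⟨g2, e2⟩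
      exact (h7.trans ((hall w1 hw1).symm.trans (hall w2 hw2))).trans h8.symm
    obtain ⟨g3, hg3⟩ := isConj_iff.1 h6
    exact hab g3 hg3

end Cfsg.Agent.H334.Sp4
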