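import Cfsg.Agent.H339.Asm
import Cfsg.Agent.H334.Symp.Final

/-!
# The swap in `N_G(M)`

From helper339's analysis of `N_G(M)`: if `N_G(M)` does not normalise `P` then some element of `N_G(M)` interchanges the
root groups `Z = d(F)` and `X = b(F)`, and these are the only conjugates of `Z` in `N_G(M)` which are contained in `Z X`.
-/

set_option autoImplicit false
set_option linter.unusedSectionVars false
set_option linter.unusedVariables false
open Subgroup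

namespace Cfsg.Agent.H334.Sp4

open Cfsg.Agent.H339

/-- the elements of order `p` central in a Sylow subgroup are conjugate into `Z` -/
theorem exists_conj_d {G F : Type*} [Group G] [Finite G] [Field F] {p : ℕ} [Fact p.Prime]
    (h2 : (2 : F) ≠ 0) (K : Co G F) (P : Sylow p G) (hP : K.P = P) (u : G) (Q : Sylow p G) (hu : orderOf u = p)
    (huQ : u ∈ (Q : Subgroup G)) (huc : ∀ y ∈ (Q : Subgroup G), y * u = u * y) :
    ∃ g : G, ∃ w, w ≠ 0 ∧ g * u * g⁻¹ = K.d w := by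
  have hp : p.Prime := Fact.out
  obtain ⟨g, hg⟩ := MulAction.exists_smul_eq G Q P
  have hg' : ∀ y, y ∈ (P : Subgroup G) → g⁻¹ * y * g ∈ (Q : Subgroup G) := by
    intro y hy
    rw [← hg] at hy
    have hy' : y ∈ cj g (Q : Subgroup G) := hy
    rwa [mem_cj] at hy'
  have h1 : g * u * g⁻¹ ∈ K.P := by
    rw [hP, ← hg]
    change _ ∈ cj g (Q : Subgroup G)
    exact conj_mem_cj huQ
  have h3 : g * u * g⁻¹ ∈ K.Z := by
    apply K.mem_Z_of_comm_P h2 h1
    intro y hy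
    rw [hP] at hy
    have h4 := huc _ (hg' y hy)
    calc y * (g * u * g⁻¹) = g * (g⁻¹ * y * g * u) * g⁻¹ := by group
      _ = g * (u * (g⁻¹ * y * g)) * g⁻¹ := by rw [h4]
      _ = _ := by group
  obtain ⟨w, hw⟩ := h3
  refine ⟨g, w, ?_, hw⟩
  rintro rfl
  rw [K.d_zero] at hw
  have : u = 1 := by
    have e : u = g⁻¹ * (g * u * g⁻¹) * g := by group
    rw [e, hw]; group
  rw [this, orderOf_one] at hu
  exact hp.one_lt.ne hu

/-- The swap, and the points in `Z X`. -/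
theorem exists_swap {G F : Type*} [Group G] [Finite G] [Field F] [Fintype F] {p n : ℕ}
    [Fact p.Prime] (hp2 : p ≠ 2) (hn : 1 ≤ n) (h4 : p ^ n % 4 = 3) (h5 : 3 < p ^ n) (hF : Fintype.card F = p ^ n)
    (h2 : (2 : F) ≠ 0) (K : Co G F)
    (cent : ∀ v, v ≠ 0 → ∀ g, (∀ y ∈ K.M, g * y * g⁻¹ ∈ K.M) → g * K.d v = K.d v * g →
      ∃ t u v' s r, g = K.m t u v' * K.a s * K.h r)
    (hc : ∃ (u v : G) (Pu Pv : Sylow p G), orderOf u = p ∧ orderOf v = p ∧
      u ∈ (Pu : Subgroup G) ∧ (∀ y ∈ (Pu : Subgroup G), y * u = u * y) ∧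
      v ∈ (Pv : Subgroup G) ∧ (∀ y ∈ (Pv : Subgroup G), y * v = v * y) ∧ ∀ g : G, g * u * g⁻¹ ≠ v)
    (P : Sylow p G) (hP : K.P = P)
    (hnp : ¬ normalizer (K.M : Set G) ≤ normalizer (K.P : Set G)) :
    (∃ n ∈ normalizer (K.M : Set G), cj n K.Z = K.X ∧ cj n K.X = K.Z) ∧
      ∀ g ∈ normalizer (K.M : Set G), cj g K.Z ≤ K.D → cj g K.Z = K.Z ∨ cj g K.Z = K.X := by
  classical
  have hp : p.Prime := Fact.out
  set N := Subgroup.normalizer (K.M : Set G) with hN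
  have hPN : ∀ x ∈ K.P, x ∈ N := fun x hx => mem_nrm (K.M_normal_P x hx)
  have ha : ∀ s, K.a s ∈ N := fun s => hPN _ (K.A_le_P ⟨s, rfl⟩)
  have hb : ∀ s, K.b s ∈ N := fun s => hPN _ (K.M_le_P ⟨s, 0, 0, K.b_eq s⟩)
  have hc' : ∀ s, K.c s ∈ N := fun s => hPN _ (K.M_le_P ⟨0, s, 0, K.c_eq s⟩)
  have hd : ∀ s, K.d s ∈ N := fun s => hPN _ (K.M_le_P ⟨0, 0, s, K.d_eq s⟩)
  have hh : ∀ r, K.h r ∈ N := by
    intro r
    apply mem_nrm
    rintro _ ⟨t, u, v, rfl⟩
    rw [K.h_m, mul_inv_cancel_right]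
    exact K.m_mem _ _ _
  let L : Co N F := K.res N ha hb hc' hd hh
  have hNM : ∀ g : N, ∀ y ∈ K.M, (g : G) * y * (g : G)⁻¹ ∈ K.M := by
    intro g y hy
    exact (Subgroup.mem_normalizer_iff.mp g.2 y).mp hy
  have hcentL : ∀ v, v ≠ 0 → ∀ g : N, g * L.d v = L.d v * g →
      ∃ t u v' s r, g = L.m t u v' * L.a s * L.h r := by
    intro v hv g hg
    obtain ⟨t, u, v', s, r, e⟩ := cent v hv g (hNM g) (congrArg Subtype.val hg)
    exact ⟨t, u, v', s, r, Subtype.ext e⟩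
  have hnrm : ∀ g : N, ∀ x ∈ L.M, g * x * g⁻¹ ∈ L.M := by
    intro g x hx
    rw [Co.mem_res_M] at hx ⊢
    exact hNM g _ hx
  have H : L.Hyp := by
    refine ⟨hcentL, hnrm, ?_, h2, ?_⟩
    · by_contra hcon
      push Not at hcon
      obtain ⟨u, v, Pu, Pv, hu, hv, huP, huc, hvP, hvc, huv⟩ := hc
      obtain ⟨g1, w1, hw1, e1⟩ := exists_conj_d h2 K P hP u Pu hu huP huc
      obtain ⟨g2, w2, hw2, e2⟩ := exists_conj_d h2 K P hP v Pv hv hvP hvc
      obtain ⟨k1, hk1⟩ := hcon w1 hw1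
      obtain ⟨k2, hk2⟩ := hcon w2 hw2
      have f1 : (k1 : G) * K.d 1 * (k1 : G)⁻¹ = K.d w1 := congrArg Subtype.val hk1
      have f2 : (k2 : G) * K.d 1 * (k2 : G)⁻¹ = K.d w2 := congrArg Subtype.val hk2
      apply huv (g2⁻¹ * k2 * (k1 : G)⁻¹ * g1)
      have e3 : g2⁻¹ * k2 * (k1 : G)⁻¹ * g1 * u * (g2⁻¹ * k2 * (k1 : G)⁻¹ * g1)⁻¹ =
          g2⁻¹ * (k2 * ((k1 : G)⁻¹ * (g1 * u * g1⁻¹) * k1) * (k2 : G)⁻¹) * g2 := by group
      have e4 : (k1 : G)⁻¹ * (g1 * u * g1⁻¹) * k1 = K.d 1 := by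
        rw [e1, ← f1]; group
      rw [e3, e4, f2, ← e2]
      group
    · by_contra hcon
      push Not at hcon
      apply hnp
      intro g hg
      apply mem_nrm
      rintro _ ⟨t, u, v, s, rfl⟩
      obtain ⟨t', u', v', s', e⟩ := L.conj_a' hcentL (hcon ⟨g, hg⟩) s
      have e' : g * K.a s * g⁻¹ = K.m t' u' v' * K.a s' := congrArg Subtype.val e
      have e1 : g * (K.m t u v * K.a s) * g⁻¹ = (g * K.m t u v * g⁻¹) * (g * K.a s * g⁻¹) := by
        group
      rw [e1, e']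
      exact K.P.mul_mem (K.M_le_P (hNM ⟨g, hg⟩ _ (K.m_mem _ _ _))) ⟨_, _, _, _, rfl⟩
  have hF' : Nat.card F = p ^ n := by rw [Nat.card_eq_fintype_card, hF]
  have hm1 : ¬ IsSquare (-1 : F) := by
    rw [FiniteField.isSquare_neg_one_iff, hF]
    exact fun h => h h4
  have hE := H.card_E hp hp2 hn hF' h4 hm1
  obtain ⟨S₁, hS₁⟩ := H.E_nonempty
  have huniq : ∀ S ∈ L.E, S = S₁ := by
    intro S hS
    rw [Nat.card_eq_one_iff_unique] at hE
    have := hE.1.elim (⟨S, hS⟩ : L.E) ⟨S₁, hS₁⟩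
    exact congrArg Subtype.val this
  have hS₁X : S₁ = L.X := by
    by_contra hne
    have h6 : ∀ r : Fˣ, (r : F) * r = 1 := fun r =>
      H.sq_eq_one_of_fix hS₁ hne (huniq _ (H.E_cj_h hS₁ r))
    have h7 : Nat.card Fˣ ≤ 2 := by
      have h8 : ∀ r : Fˣ, r = 1 ∨ r = -1 := by
        intro r
        have h9 : ((r : F) - 1) * (r + 1) = 0 := by linear_combination h6 r
        rcases mul_eq_zero.1 h9 with h | h
        · left; apply Units.ext; rw [Units.val_one]; linear_combination h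
        · right; apply Units.ext; rw [Units.val_neg, Units.val_one]; linear_combination h
      let f : Fˣ → Bool := fun r => decide (r = 1)
      have hf : Function.Injective f := by
        intro a b hab
        simp only [f, decide_eq_decide] at hab
        rcases h8 a with h | h <;> rcases h8 b with h' | h'
        · rw [h, h']
        · rw [h, (hab.1 h)]
        · rw [h', (hab.2 h')]
        · rw [h, h']
      have := Nat.card_le_card_of_injective f hf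
      simpa using this
    rw [Nat.card_units, hF'] at h7
    omega
  subst hS₁X
  have H2 : L.Hyp2 := { toHyp := H, E_eq := huniq, X_mem := hS₁, m1 := hm1 }
  -- transport to `G`
  have hcjZ : ∀ g : N, (cj g L.Z).map N.subtype = cj (g : G) K.Z := by
    intro g
    ext x
    constructor
    · rintro ⟨y, hy, rfl⟩
      rw [SetLike.mem_coe, mem_cj] at hy
      rw [mem_cj]
      exact Co.mem_res_Z.1 hy
    · intro hx
      rw [mem_cj] at hx
      obtain ⟨v, hv⟩ := hx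
      have hx : x = (g : G) * K.d v * (g : G)⁻¹ := by rw [← hv]; group
      refine ⟨g * L.d v * g⁻¹, conj_mem_cj ⟨v, rfl⟩, ?_⟩
      rw [hx]; rfl
  have hZ' : L.Z.map N.subtype = K.Z := by
    ext x
    constructor
    · rintro ⟨y, hy, rfl⟩
      exact Co.mem_res_Z.1 hy
    · rintro ⟨v, rfl⟩
      exact ⟨L.d v, ⟨v, rfl⟩, rfl⟩
  have hX' : L.X.map N.subtype = K.X := by
    ext x
    constructor
    · rintro ⟨y, ⟨t, rfl⟩, rfl⟩
      exact ⟨t, rfl⟩
    · rintro ⟨v, rfl⟩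
      exact ⟨L.b v, ⟨v, rfl⟩, rfl⟩
  have hcjX : ∀ g : N, (cj g L.X).map N.subtype = cj (g : G) K.X := by
    intro g
    ext x
    constructor
    · rintro ⟨y, hy, rfl⟩
      rw [SetLike.mem_coe, mem_cj] at hy
      obtain ⟨t, ht⟩ := hy
      rw [mem_cj]
      exact ⟨t, congrArg Subtype.val ht⟩
    · intro hx
      rw [mem_cj] at hx
      obtain ⟨v, hv⟩ := hx
      have hx : x = (g : G) * K.b v * (g : G)⁻¹ := by rw [← hv]; group
      refine ⟨g * L.b v * g⁻¹, conj_mem_cj ⟨v, rfl⟩, ?_⟩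
      rw [hx]; rfl
  obtain ⟨n, hn1, hn2⟩ := H2.exists_swap
  refine ⟨⟨n, n.2, ?_, ?_⟩, ?_⟩
  · rw [← hcjZ, hn1, hX']
  · rw [← hcjX, hn2, hZ']
  · intro g hg hgD
    by_cases hZ : cj (⟨g, hg⟩ : N) L.Z = L.Z
    · left
      rw [← hcjZ ⟨g, hg⟩, hZ, hZ']
    · right
      have h6 : cj (⟨g, hg⟩ : N) L.Z = L.X := by
        apply huniq
        refine ⟨⟨⟨g, hg⟩, rfl⟩, hZ, ?_⟩
        intro x hx
        have h7 : (x : G) ∈ cj g K.Z := by
          rw [← hcjZ ⟨g, hg⟩]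
          exact ⟨x, hx, rfl⟩
        obtain ⟨t, v, h8⟩ := hgD h7
        exact ⟨t, v, Subtype.ext h8⟩
      rw [← hcjZ ⟨g, hg⟩, h6, hX']

end Cfsg.Agent.H334.Sp4
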