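import Cfsg.Agent.SylowSp4.Base
import Cfsg.Agent.H334.Symp.Model

/-!
# Two groups with coordinates `TSp` with the same `k` are isomorphic; centralizer of nonabelian subgroups of `SL(2,F)`
-/

set_option autoImplicit false
set_option linter.unusedSectionVars false
set_option linter.unusedVariables false
set_option linter.unusedSimpArgs false

open Subgroup

namespace Cfsg.Agent.H334.Sp4

open Cfsg.Agent.SylowSp4.Coord Cfsg.Agent.SylowSp4.Base

/-- groups with the same coordinates are isomorphic -/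
theorem iso_of_TSp {G G' : Type*} [Group G] [Group G'] {S : Subgroup G} {S' : Subgroup G'} {k : ℕ}
    {f : Q k → Q k → G} {s : G} {f' : Q k → Q k → G'} {s' : G'} (h : TSp S k f s) (h' : TSp S' k f' s') :
    Nonempty (S ≃* S') := by
  obtain ⟨Γ, hΓ⟩ := exists_TSp (G := G × G') h.hk (f := fun a b => (f a b, f' a b)) (s := (s, s'))
    (fun a b c d => Prod.ext (h.f_mul a b c d) (h'.f_mul a b c d))
    (Prod.ext h.f_zz h'.f_zz)
    (fun a b c d e => h.f_inj a b c d (congrArg Prod.fst e))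
    (Prod.ext h.s_s h'.s_s)
    (fun a b => Prod.ext (h.s_f a b) (h'.s_f a b))
    (fun a b e => h.s_ne a b (congrArg Prod.fst e))
  have c0 := card_eq hΓ
  have c1 := card_eq h
  have c2 := card_eq h'
  have hf0 : Finite Γ := Nat.finite_of_card_ne_zero (by rw [c0]; positivity)
  have hf1 : Finite S := Nat.finite_of_card_ne_zero (by rw [c1]; positivity)
  have hf2 : Finite S' := Nat.finite_of_card_ne_zero (by rw [c2]; positivity)
  have m1 : ∀ x : Γ, (x : G × G').1 ∈ S := by
    intro x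
    rw [h.mem_iff]
    rcases (hΓ.mem_iff _).1 x.2 with ⟨a, b, e⟩ | ⟨a, b, e⟩
    · exact Or.inl ⟨a, b, congrArg Prod.fst e⟩
    · exact Or.inr ⟨a, b, congrArg Prod.fst e⟩
  have m2 : ∀ x : Γ, (x : G × G').2 ∈ S' := by
    intro x
    rw [h'.mem_iff]
    rcases (hΓ.mem_iff _).1 x.2 with ⟨a, b, e⟩ | ⟨a, b, e⟩
    · exact Or.inl ⟨a, b, congrArg Prod.snd e⟩
    · exact Or.inr ⟨a, b, congrArg Prod.snd e⟩
  let p1 : Γ →* S :=
    { toFun := fun x => ⟨(x : G × G').1, m1 x⟩, map_one' := rfl, map_mul' := fun _ _ => rfl }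
  let p2 : Γ →* S' :=
    { toFun := fun x => ⟨(x : G × G').2, m2 x⟩, map_one' := rfl, map_mul' := fun _ _ => rfl }
  have s1 : Function.Surjective p1 := by
    rintro ⟨g, hg⟩
    rcases (h.mem_iff _).1 hg with ⟨a, b, rfl⟩ | ⟨a, b, rfl⟩
    · exact ⟨⟨(f a b, f' a b), (hΓ.mem_iff _).2 (Or.inl ⟨a, b, rfl⟩)⟩, rfl⟩
    · exact ⟨⟨(f a b * s, f' a b * s'), (hΓ.mem_iff _).2 (Or.inr ⟨a, b, rfl⟩)⟩, rfl⟩
  have s2 : Function.Surjective p2 := by
    rintro ⟨g, hg⟩
    rcases (h'.mem_iff _).1 hg with ⟨a, b, rfl⟩ | ⟨a, b, rfl⟩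
    · exact ⟨⟨(f a b, f' a b), (hΓ.mem_iff _).2 (Or.inl ⟨a, b, rfl⟩)⟩, rfl⟩
    · exact ⟨⟨(f a b * s, f' a b * s'), (hΓ.mem_iff _).2 (Or.inr ⟨a, b, rfl⟩)⟩, rfl⟩
  have b1 : Function.Bijective p1 := s1.bijective_of_nat_card_le (by rw [c0, c1])
  have b2 : Function.Bijective p2 := s2.bijective_of_nat_card_le (by rw [c0, c2])
  exact ⟨(MulEquiv.ofBijective p1 b1).symm.trans (MulEquiv.ofBijective p2 b2)⟩

open Cfsg.Agent.H334.Symp Cfsg.Agent.H334.Symp.El

/-- the centralizer of two noncommuting elements of `SL(2,F)` is `± 1` -/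
theorem sl_cent {F : Type*} [Field F] {A P P' : Matrix.SpecialLinearGroup (Fin 2) F} (h : A * P = P * A)
    (h' : A * P' = P' * A) (hne : P * P' ≠ P' * P) : A = 1 ∨ A = -1 := by
  have e00 := congrArg (fun B : Matrix.SpecialLinearGroup (Fin 2) F => B.1 0 0) h
  have e01 := congrArg (fun B : Matrix.SpecialLinearGroup (Fin 2) F => B.1 0 1) h
  have e10 := congrArg (fun B : Matrix.SpecialLinearGroup (Fin 2) F => B.1 1 0) h
  have f00 := congrArg (fun B : Matrix.SpecialLinearGroup (Fin 2) F => B.1 0 0) h'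
  have f01 := congrArg (fun B : Matrix.SpecialLinearGroup (Fin 2) F => B.1 0 1) h'
  have f10 := congrArg (fun B : Matrix.SpecialLinearGroup (Fin 2) F => B.1 1 0) h'
  simp only [sl_mul] at e00 e01 e10 f00 f01 f10
  have key : A.1 0 1 = 0 ∧ A.1 1 0 = 0 ∧ A.1 0 0 = A.1 1 1 := by
    by_contra hcon
    apply hne
    have comm : P.1 0 1 * P'.1 1 0 = P'.1 0 1 * P.1 1 0 ∧
        P.1 0 1 * (P'.1 0 0 - P'.1 1 1) = P'.1 0 1 * (P.1 0 0 - P.1 1 1) ∧
        P.1 1 0 * (P'.1 0 0 - P'.1 1 1) = P'.1 1 0 * (P.1 0 0 - P.1 1 1) := by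
      by_cases hb : A.1 0 1 = 0
      · by_cases hc : A.1 1 0 = 0
        · have hd : A.1 0 0 - A.1 1 1 ≠ 0 := fun hd => hcon ⟨hb, hc, sub_eq_zero.1 hd⟩
          have h1 : P.1 0 1 = 0 := by
            have : (A.1 0 0 - A.1 1 1) * P.1 0 1 = 0 := by linear_combination e01 + (P.1 0 0 - P.1 1 1) * hb
            exact (mul_eq_zero.1 this).resolve_left hd
          have h2 : P'.1 0 1 = 0 := by
            have : (A.1 0 0 - A.1 1 1) * P'.1 0 1 = 0 := by linear_combination f01 + (P'.1 0 0 - P'.1 1 1) * hb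
            exact (mul_eq_zero.1 this).resolve_left hd
          have h3 : P.1 1 0 = 0 := by
            have : (A.1 0 0 - A.1 1 1) * P.1 1 0 = 0 := by linear_combination -e10 + (P.1 0 0 - P.1 1 1) * hc
            exact (mul_eq_zero.1 this).resolve_left hd
          have h4 : P'.1 1 0 = 0 := by
            have : (A.1 0 0 - A.1 1 1) * P'.1 1 0 = 0 := by linear_combination -f10 + (P'.1 0 0 - P'.1 1 1) * hc
            exact (mul_eq_zero.1 this).resolve_left hd
          rw [h1, h2, h3, h4]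
          exact ⟨by ring, by ring, by ring⟩
        · refine ⟨?_, ?_, ?_⟩
          · apply mul_left_cancel₀ hc
            linear_combination (-P'.1 1 0) * e00 + (P.1 1 0) * f00
          · apply mul_left_cancel₀ hc
            have h1 : A.1 1 0 * P.1 0 1 = 0 := by linear_combination -e00 + P.1 1 0 * hb
            have h2 : A.1 1 0 * P'.1 0 1 = 0 := by linear_combination -f00 + P'.1 1 0 * hb
            linear_combination (P'.1 0 0 - P'.1 1 1) * h1 - (P.1 0 0 - P.1 1 1) * h2
          · apply mul_left_cancel₀ hc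
            linear_combination (P.1 1 0) * f10 - (P'.1 1 0) * e10
      · have c2 : P.1 0 1 * (P'.1 0 0 - P'.1 1 1) = P'.1 0 1 * (P.1 0 0 - P.1 1 1) := by
          apply mul_left_cancel₀ hb
          linear_combination (P'.1 0 1) * e01 - (P.1 0 1) * f01
        refine ⟨?_, c2, ?_⟩
        · apply mul_left_cancel₀ hb
          linear_combination (P.1 0 1) * f00 - (P'.1 0 1) * e00
        · apply mul_left_cancel₀ hb
          linear_combination (P'.1 0 0 - P'.1 1 1) * e00 - (P.1 0 0 - P.1 1 1) * f00 + A.1 1 0 * c2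
    obtain ⟨c1, c2, c3⟩ := comm
    apply sl_ext
    · rw [sl_mul, sl_mul]; linear_combination c1
    · rw [sl_mul, sl_mul]; linear_combination -c2
    · rw [sl_mul, sl_mul]; linear_combination c3
    · rw [sl_mul, sl_mul]; linear_combination -c1
  obtain ⟨h01, h10, hd⟩ := key
  have hdet := det_eq A
  rw [h10, ← hd, mul_zero, sub_zero] at hdet
  rcases mul_self_eq_one_iff.1 hdet with h | h
  · left
    apply sl_ext
    · rw [h, sl_one00]
    · rw [h01, sl_one01]
    · rw [h10, sl_one10]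
    · rw [← hd, h, sl_one11]
  · right
    apply sl_ext
    · rw [h, neg_one_apply, sl_one00]
    · rw [h01, neg_one_apply, sl_one01, neg_zero]
    · rw [h10, neg_one_apply, sl_one10, neg_zero]
    · rw [← hd, h, neg_one_apply, sl_one11]

end Cfsg.Agent.H334.Sp4
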