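import Cfsg.Agent.H334.Sp4.Invol
import Cfsg.Agent.H334.Sp4.TIso
import Cfsg.Agent.SylowSp4.Recog

/-!
# The Sylow 2-subgroups of `G`
-/

set_option autoImplicit false
set_option linter.unusedSectionVars false
set_option linter.unusedVariables false
set_option linter.unusedSimpArgs false

universe u v

open Subgroup

namespace Cfsg.Agent.H334.Sp4

open Cfsg.Agent.H339 Cfsg.Agent.H334.Symp Cfsg.Agent.H334.Symp.El
open Cfsg.Agent.SylowSp4.Coord Cfsg.Agent.SylowSp4.Base

namespace Ctx

variable {G : Type u} {F : Type v} [Group G] [Field F] {f : El F →* G} {w : G} {X : Type u} [Group X]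
    {π : ↥(centralizer ({f (ts F)} : Set G)) →* X}

/-- `w` is not in `L₁ L₂` -/
theorem w_ne (C : Ctx f w π) [Finite G] [Fintype F] {m : ℕ} (hm3 : 3 ≤ m) (hF : Fintype.card F = 3 ^ m)
    (hS : Star.{u}) (A B : Matrix.SpecialLinearGroup (Fin 2) F) : w ≠ f (emb F A) * C.b B := by
  intro h2
  have hcomm := C.comm hm3 hF hS
  have h3 : f (emb F (A * up 1 * A⁻¹)) ∈ (Zs F).map f := by
    have h4 := (C.wX _).1 (C.sw.mem_X (s := 1))
    have h5 : w * f (emb F (up 1)) * w⁻¹ = f (emb F (A * up 1 * A⁻¹)) := by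
      have e1 : f (emb F (A * up 1 * A⁻¹)) = f (emb F A) * f (emb F (up 1)) * (f (emb F A))⁻¹ := by
        simp only [map_mul, map_inv]
      rw [e1]
      calc w * f (emb F (up 1)) * w⁻¹ = (f (emb F A) * C.b B) * f (emb F (up 1)) * (f (emb F A) * C.b B)⁻¹ := by
            rw [← h2]
        _ = f (emb F A) * (C.b B * f (emb F (up 1))) * (C.b B)⁻¹ * (f (emb F A))⁻¹ := by group
        _ = f (emb F A) * (f (emb F (up 1)) * C.b B) * (C.b B)⁻¹ * (f (emb F A))⁻¹ := by rw [hcomm]
        _ = f (emb F A) * f (emb F (up 1)) * (f (emb F A))⁻¹ := by group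
    rwa [h5] at h4
  obtain ⟨v, hv⟩ := C.sw.of_mem_Z h3
  have h4 : A * up 1 * A⁻¹ = 1 := congrArg El.A (C.inj hv)
  apply up1_ne (F := F)
  calc up (1 : F) = A⁻¹ * (A * up 1 * A⁻¹) * A := by group
    _ = 1 := by rw [h4]; group

theorem emb_inj (C : Ctx f w π) {A B : Matrix.SpecialLinearGroup (Fin 2) F} (h : f (emb F A) = f (emb F B)) : A = B :=
  congrArg El.A (C.inj h)

theorem b_inj (C : Ctx f w π) {A B : Matrix.SpecialLinearGroup (Fin 2) F} (h : C.b A = C.b B) : A = B := by
  unfold b at h
  exact C.emb_inj (mul_left_cancel (mul_right_cancel h))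

theorem t_mul (C : Ctx f w π) (A : Matrix.SpecialLinearGroup (Fin 2) F) : f (ts F) * f (emb F A) = f (emb F (-A)) := by
  rw [C.f_neg, C.sw.t_comm C.two]

theorem b_neg (C : Ctx f w π) (A : Matrix.SpecialLinearGroup (Fin 2) F) : C.b (-A) = C.b A * f (ts F) := by
  have : (-A) = A * (-1) := by simp
  rw [this, C.b_mul, C.b_neg_one]

/-- equality of two products -/
theorem prod_eq (C : Ctx f w π) [Finite G] [Fintype F] {m : ℕ} (hm3 : 3 ≤ m) (hF : Fintype.card F = 3 ^ m)
    (hS : Star.{u}) {A B D E : Matrix.SpecialLinearGroup (Fin 2) F}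
    (h : f (emb F A) * C.b B = f (emb F D) * C.b E) : (A = D ∧ B = E) ∨ (A = -D ∧ B = -E) := by
  have h1 : f (emb F (D⁻¹ * A)) = C.b (E * B⁻¹) := by
    rw [C.b_mul, C.b_inv, map_mul, map_mul, map_inv, map_inv, inv_mul_eq_iff_eq_mul, ← mul_assoc, ← h]; group
  rcases C.inter hm3 hF hS h1 with h2 | h2
  · left
    have h3 : A = D := (inv_mul_eq_one.1 h2).symm
    subst h3
    exact ⟨rfl, C.b_inj (mul_left_cancel h)⟩
  · right
    have h3 : A = -D := by
      have : A = D * (D⁻¹ * A) := by group
      rw [this, h2]; simp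
    refine ⟨h3, ?_⟩
    subst h3
    have h4 : C.b (-B) = C.b E := by
      apply mul_left_cancel (a := f (emb F D))
      rw [← h, C.f_neg, C.b_neg, mul_assoc]
      congr 1
      have h5 := C.comm hm3 hF hS (-1) B
      have h6 : f (emb F (-1)) = f (ts F) := rfl
      rw [h6] at h5
      exact h5.symm
    rw [← C.b_inj h4, neg_neg]

/-- the order of `C_G(t)` -/
theorem card_cent (C : Ctx f w π) [Finite G] [Fintype F] {m : ℕ} (hm3 : 3 ≤ m) (hF : Fintype.card F = 3 ^ m)
    (h4 : 3 ^ m % 4 = 3) (hS : Star.{u}) (hww : w * w = 1) :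
    Nat.card ↥(centralizer ({f (ts F)} : Set G)) = Nat.card (Matrix.SpecialLinearGroup (Fin 2) F) ^ 2 := by
  have hcomm := C.comm hm3 hF hS
  let μ : Matrix.SpecialLinearGroup (Fin 2) F × Matrix.SpecialLinearGroup (Fin 2) F →*
      ↥(centralizer ({f (ts F)} : Set G)) :=
    { toFun := fun p => C.j p.1 * (C.wY * C.j p.2 * C.wY⁻¹)
      map_one' := by simp
      map_mul' := by
        rintro ⟨a, b⟩ ⟨c, d⟩
        apply Subtype.ext
        show f (emb F (a * c)) * C.b (b * d) = f (emb F a) * C.b b * (f (emb F c) * C.b d)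
        rw [map_mul, map_mul, C.b_mul]
        calc f (emb F a) * f (emb F c) * (C.b b * C.b d) = f (emb F a) * (f (emb F c) * C.b b) * C.b d := by group
          _ = f (emb F a) * (C.b b * f (emb F c)) * C.b d := by rw [hcomm]
          _ = f (emb F a) * C.b b * (f (emb F c) * C.b d) := by group }
  have hμ : ∀ p, ((μ p : ↥(centralizer ({f (ts F)} : Set G))) : G) = f (emb F p.1) * C.b p.2 := fun _ => rfl
  have hker : Nat.card μ.ker = 2 := by
    have hset : (μ.ker : Set (Matrix.SpecialLinearGroup (Fin 2) F × Matrix.SpecialLinearGroup (Fin 2) F)) =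
        {(1, 1), (-1, -1)} := by
      ext ⟨a, b⟩
      simp only [SetLike.mem_coe, MonoidHom.mem_ker, Set.mem_insert_iff, Set.mem_singleton_iff, Prod.mk.injEq]
      constructor
      · intro h
        have h1 : f (emb F a) * C.b b = f (emb F 1) * C.b 1 := by
          have h2 := congrArg Subtype.val h
          rw [hμ] at h2
          rw [C.b_one, map_one, map_one, mul_one]
          exact h2
        exact C.prod_eq hm3 hF hS h1
      · rintro (⟨rfl, rfl⟩ | ⟨rfl, rfl⟩)
        · exact map_one μ
        · apply Subtype.ext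
          rw [hμ]
          show f (emb F (-1)) * C.b (-1) = 1
          rw [C.b_neg_one]
          exact C.sw.t_sq
    have h1 : Nat.card μ.ker = Nat.card (μ.ker : Set (Matrix.SpecialLinearGroup (Fin 2) F × Matrix.SpecialLinearGroup (Fin 2) F)) := rfl
    rw [h1, hset, Nat.card_coe_set_eq, Set.ncard_pair]
    intro h2
    have h3 : (1 : Matrix.SpecialLinearGroup (Fin 2) F) = -1 := (Prod.mk.inj h2).1
    apply C.two
    have h5 := congrArg (fun B : Matrix.SpecialLinearGroup (Fin 2) F => B.1 0 0) h3
    simp only [sl_one00, neg_one_apply] at h5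
    linear_combination h5
  have hidx : μ.range.index = 2 := by
    rw [Subgroup.index_eq_two_iff]
    refine ⟨C.wY, ?_⟩
    intro y
    have hex := C.exists_form hm3 hF h4 hS (mem_centralizer_singleton_iff.1 y.2)
    have hr : ∀ z : ↥(centralizer ({f (ts F)} : Set G)), z ∈ μ.range ↔ ∃ A B, (z : G) = f (emb F A) * C.b B := by
      intro z
      constructor
      · rintro ⟨⟨A, B⟩, rfl⟩
        exact ⟨A, B, rfl⟩
      · rintro ⟨A, B, h⟩
        exact ⟨(A, B), Subtype.ext h.symm⟩
    have hwn : ∀ A B A' B', f (emb F A) * C.b B * w ≠ f (emb F A') * C.b B' := by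
      intro A B A' B' h
      apply C.w_ne hm3 hF hS (A⁻¹ * A') (B⁻¹ * B')
      have h1 : w = (f (emb F A) * C.b B)⁻¹ * (f (emb F A') * C.b B') := by rw [← h]; group
      refine h1.trans ?_
      rw [C.b_mul, C.b_inv, map_mul, map_mul, map_inv, map_inv]
      have h2 := hcomm (A⁻¹ * A') B
      rw [map_mul, map_mul, map_inv, map_inv] at h2
      have h3 : (C.b B)⁻¹ * ((f (emb F A))⁻¹ * f (emb F A')) = ((f (emb F A))⁻¹ * f (emb F A')) * (C.b B)⁻¹ := by
        rw [inv_mul_eq_iff_eq_mul, ← mul_assoc, ← h2]; group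
      calc (f (emb F A) * C.b B)⁻¹ * (f (emb F A') * C.b B')
          = ((C.b B)⁻¹ * ((f (emb F A))⁻¹ * f (emb F A'))) * C.b B' := by group
        _ = ((f (emb F A))⁻¹ * f (emb F A')) * (C.b B)⁻¹ * C.b B' := by rw [h3]
        _ = (f (emb F A))⁻¹ * f (emb F A') * ((C.b B)⁻¹ * C.b B') := by group
    rw [hr, hr]
    rcases hex with ⟨A, B, h | h⟩
    · right
      refine ⟨⟨A, B, h⟩, ?_⟩
      rintro ⟨A', B', h'⟩
      apply hwn A B A' B'
      rw [← h]; exact h'
    · left
      refine ⟨⟨A, B, ?_⟩, ?_⟩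
      · show (y : G) * w = _
        rw [h, mul_assoc, hww, mul_one]
      · rintro ⟨A', B', h'⟩
        exact hwn A B A' B' (h.symm.trans h')
  have h1 := μ.ker.card_mul_index
  rw [Subgroup.index_ker, hker, Nat.card_prod] at h1
  have h2 := μ.range.card_mul_index
  rw [hidx] at h2
  rw [← h2, pow_two, ← h1]
  ring

/-- **The Sylow 2-subgroups of `G` are those of `PSp(4,F)`.** -/
theorem sylow_iso (C : Ctx f w π) [Finite G] [Fintype F] {m : ℕ} (hm3 : 3 ≤ m) (hF : Fintype.card F = 3 ^ m)
    (h4 : 3 ^ m % 4 = 3) (hS : Star.{u}) (hww : w * w = 1) :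
    ∃ (S : Sylow 2 G) (P : Sylow 2 (Cfsg.PSp 2 F)), Nonempty ((S : Subgroup G) ≃* (P : Subgroup (Cfsg.PSp 2 F))) := by
  classical
  have h2p : Fact (Nat.Prime 2) := ⟨Nat.prime_two⟩
  have hcomm := C.comm hm3 hF hS
  have hodd : Odd (Fintype.card F) := by rw [hF]; exact Odd.pow (by decide)
  have P2 : Sylow 2 (Matrix.SpecialLinearGroup (Fin 2) F) := default
  obtain ⟨k, hk, ⟨e⟩⟩ := Cfsg.Agent.S0261.result hodd P2
  -- the central involution
  have hz : ((e.symm (z k) : P2) : Matrix.SpecialLinearGroup (Fin 2) F) = -1 := by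
    have h3 : (e.symm (z k)) * (e.symm (z k)) = 1 := by rw [← map_mul, z_mul_z, map_one]
    have h5 := congrArg (fun x : (P2 : Subgroup (Matrix.SpecialLinearGroup (Fin 2) F)) => (x : Matrix.SpecialLinearGroup (Fin 2) F)) h3
    rcases sl_sq C.two (A := ((e.symm (z k) : P2) : Matrix.SpecialLinearGroup (Fin 2) F)) h5 with h6 | h6
    · exfalso
      apply z_ne_one (k := k)
      have h7 : e.symm (z k) = 1 := Subtype.ext h6
      rw [← map_one e.symm] at h7
      exact e.symm.injective h7
    · exact h6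
  let g : Q k → Matrix.SpecialLinearGroup (Fin 2) F := fun a => ((e.symm a : P2) : Matrix.SpecialLinearGroup (Fin 2) F)
  have g_mul : ∀ a b, g (a * b) = g a * g b := fun a b => by
    show ((e.symm (a * b) : P2) : Matrix.SpecialLinearGroup (Fin 2) F) = _
    rw [map_mul]; rfl
  have g_inj : ∀ a b, g a = g b → a = b := fun a b h => e.symm.injective (Subtype.ext h)
  have g_z : g (z k) = -1 := hz
  have g_mem : ∀ x ∈ (P2 : Subgroup (Matrix.SpecialLinearGroup (Fin 2) F)), ∃ a, g a = x := by
    intro x hx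
    exact ⟨e ⟨x, hx⟩, by show ((e.symm (e ⟨x, hx⟩) : P2) : Matrix.SpecialLinearGroup (Fin 2) F) = x; simp⟩
  obtain ⟨T, hT⟩ := exists_TSp (G := G) hk (f := fun a b => f (emb F (g a)) * C.b (g b)) (s := w)
    (by
      intro a b c d
      show f (emb F (g a)) * C.b (g b) * (f (emb F (g c)) * C.b (g d)) = f (emb F (g (a * c))) * C.b (g (b * d))
      rw [g_mul, g_mul, C.b_mul, map_mul, map_mul]
      calc f (emb F (g a)) * C.b (g b) * (f (emb F (g c)) * C.b (g d))
          = f (emb F (g a)) * (C.b (g b) * f (emb F (g c))) * C.b (g d) := by group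
        _ = f (emb F (g a)) * (f (emb F (g c)) * C.b (g b)) * C.b (g d) := by rw [hcomm]
        _ = f (emb F (g a)) * f (emb F (g c)) * (C.b (g b) * C.b (g d)) := by group)
    (by
      show f (emb F (g (z k))) * C.b (g (z k)) = 1
      rw [g_z, C.b_neg_one]
      exact C.sw.t_sq)
    (by
      intro a b c d h
      rcases C.prod_eq hm3 hF hS h with ⟨h1, h2⟩ | ⟨h1, h2⟩
      · exact Or.inl ⟨g_inj _ _ h1, g_inj _ _ h2⟩
      · right
        constructor
        · apply g_inj; rw [g_mul, g_z, h1]; simp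
        · apply g_inj; rw [g_mul, g_z, h2]; simp)
    hww
    (by
      intro a b
      show w * (f (emb F (g a)) * C.b (g b)) = f (emb F (g b)) * C.b (g a) * w
      have h1 : w * f (emb F (g a)) = C.b (g a) * w := by unfold Ctx.b; group
      have h2 : w * C.b (g b) = f (emb F (g b)) * w := by
        have h3 : w⁻¹ = w := inv_eq_of_mul_eq_one_left hww
        unfold Ctx.b
        rw [h3]
        calc w * (w * f (emb F (g b)) * w) = (w * w) * f (emb F (g b)) * w := by group
          _ = f (emb F (g b)) * w := by rw [hww, one_mul]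
      calc w * (f (emb F (g a)) * C.b (g b)) = (w * f (emb F (g a))) * C.b (g b) := by group
        _ = C.b (g a) * w * C.b (g b) := by rw [h1]
        _ = C.b (g a) * (w * C.b (g b)) := by group
        _ = C.b (g a) * (f (emb F (g b)) * w) := by rw [h2]
        _ = C.b (g a) * f (emb F (g b)) * w := by group
        _ = f (emb F (g b)) * C.b (g a) * w := by rw [← hcomm])
    (fun a b => C.w_ne hm3 hF hS _ _)
  have g_one : g 1 = 1 := by
    show ((e.symm 1 : P2) : Matrix.SpecialLinearGroup (Fin 2) F) = 1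
    rw [map_one]; rfl
  -- two noncommuting elements
  obtain ⟨a0, b0, hab⟩ : ∃ a0 b0 : Q k, g a0 * g b0 ≠ g b0 * g a0 := by
    refine ⟨QuaternionGroup.a 1, QuaternionGroup.xa 0, fun h => ?_⟩
    rw [← g_mul, ← g_mul] at h
    have h1 := g_inj _ _ h
    rw [QuaternionGroup.a_mul_xa, QuaternionGroup.xa_mul_a] at h1
    have h2 := QuaternionGroup.xa.inj h1
    have h3 : ((2 : ℕ) : ZMod (2 * 2 ^ k)) = 0 := by
      push_cast
      linear_combination -h2
    rw [ZMod.natCast_eq_zero_iff] at h3
    have h5 := Nat.le_of_dvd (by norm_num) h3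
    have h6 : 2 ^ 1 ≤ 2 ^ k := Nat.pow_le_pow_right (by norm_num) hk
    omega
  have memT1 : ∀ a, f (emb F (g a)) ∈ T := by
    intro a
    have h1 := hT.f_mem a 1
    simp only [g_one, C.b_one, mul_one] at h1
    exact h1
  have memT2 : ∀ a, C.b (g a) ∈ T := by
    intro a
    have h1 := hT.f_mem 1 a
    simp only [g_one, map_one, one_mul] at h1
    exact h1
  have htT : f (ts F) ∈ T := by
    have h1 := memT1 (z k)
    rw [g_z] at h1
    exact h1
  have hTp : IsPGroup 2 T := IsPGroup.of_card (card_eq hT)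
  obtain ⟨U, hTU⟩ := hTp.exists_le_sylow
  have hUn : Nontrivial (U : Subgroup G) := by
    refine ⟨⟨⟨f (ts F), hTU htT⟩, 1, fun h => ?_⟩⟩
    exact C.sw.t_ne C.two (congrArg Subtype.val h)
  have hcen := U.isPGroup'.center_nontrivial
  obtain ⟨⟨z0, hz0⟩, hz01⟩ := exists_ne (1 : Subgroup.center (U : Subgroup G))
  have hz0c : ∀ y ∈ (U : Subgroup G), y * (z0 : G) = (z0 : G) * y := by
    intro y hy
    exact congrArg Subtype.val (mem_center_iff.1 hz0 ⟨y, hy⟩)
  have hz0ne : (z0 : G) ≠ 1 := fun h => hz01 (Subtype.ext (Subtype.ext h))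
  have hz0t : (z0 : G) = f (ts F) := by
    obtain ⟨A, B, h | h⟩ := C.exists_form hm3 hF h4 hS (hz0c _ (hTU htT)).symm
    · have hA : ∀ a, A * g a = g a * A := by
        intro a
        have h1 := hz0c _ (hTU (memT1 a))
        rw [h] at h1
        have h2 : f (emb F (A * g a)) * C.b B = f (emb F (g a * A)) * C.b B := by
          rw [map_mul, map_mul, map_mul, map_mul]
          calc f (emb F A) * f (emb F (g a)) * C.b B = f (emb F A) * (f (emb F (g a)) * C.b B) := by group
            _ = f (emb F A) * (C.b B * f (emb F (g a))) := by rw [hcomm]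
            _ = f (emb F A) * C.b B * f (emb F (g a)) := by group
            _ = f (emb F (g a)) * (f (emb F A) * C.b B) := by rw [← h1]
            _ = f (emb F (g a)) * f (emb F A) * C.b B := by group
        exact C.emb_inj (mul_right_cancel h2)
      have hB : ∀ a, B * g a = g a * B := by
        intro a
        have h1 := hz0c _ (hTU (memT2 a))
        rw [h] at h1
        have h2 : f (emb F A) * C.b (B * g a) = f (emb F A) * C.b (g a * B) := by
          rw [C.b_mul, C.b_mul]
          calc f (emb F A) * (C.b B * C.b (g a)) = f (emb F A) * C.b B * C.b (g a) := by group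
            _ = C.b (g a) * (f (emb F A) * C.b B) := by rw [← h1]
            _ = (C.b (g a) * f (emb F A)) * C.b B := by group
            _ = (f (emb F A) * C.b (g a)) * C.b B := by rw [hcomm]
            _ = f (emb F A) * (C.b (g a) * C.b B) := by group
        exact C.b_inj (mul_left_cancel h2)
      have hA1 := sl_cent (hA a0) (hA b0) hab
      have hB1 := sl_cent (hB a0) (hB b0) hab
      have htm : f (emb F (-1)) = f (ts F) := rfl
      rcases hA1 with rfl | rfl <;> rcases hB1 with rfl | rfl
      · exfalso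
        apply hz0ne
        rw [h, C.b_one, map_one, map_one, mul_one]
      · rw [h, C.b_neg_one, map_one, map_one, one_mul]
      · rw [h, C.b_one, mul_one, htm]
      · exfalso
        apply hz0ne
        rw [h, C.b_neg_one, htm]
        exact C.sw.t_sq
    · exfalso
      have hg : ∀ a, g a = 1 ∨ g a = -1 := by
        intro a
        have h1 := hz0c _ (hTU (memT1 a))
        rw [h] at h1
        have h2 : w * f (emb F (g a)) = C.b (g a) * w := by unfold b; group
        have h3 : f (emb F A) * C.b (B * g a) = f (emb F (g a * A)) * C.b B := by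
          apply mul_right_cancel (b := w)
          rw [C.b_mul, map_mul, map_mul]
          calc f (emb F A) * (C.b B * C.b (g a)) * w = f (emb F A) * C.b B * (C.b (g a) * w) := by group
            _ = f (emb F A) * C.b B * (w * f (emb F (g a))) := by rw [h2]
            _ = f (emb F A) * C.b B * w * f (emb F (g a)) := by group
            _ = f (emb F (g a)) * (f (emb F A) * C.b B * w) := by rw [← h1]
            _ = f (emb F (g a)) * f (emb F A) * C.b B * w := by group
        rcases C.prod_eq hm3 hF hS h3 with ⟨-, h5⟩ | ⟨-, h5⟩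
        · left
          have : B * g a = B * 1 := by rw [h5, mul_one]
          exact mul_left_cancel this
        · right
          have : B * g a = B * (-1) := by rw [h5]; simp
          exact mul_left_cancel this
      apply hab
      rcases hg a0 with h1 | h1 <;> rcases hg b0 with h2 | h2 <;> rw [h1, h2] <;> simp
  have hUY : (U : Subgroup G) ≤ centralizer ({f (ts F)} : Set G) := by
    intro y hy
    rw [mem_centralizer_singleton_iff, ← hz0t]
    exact hz0c y hy
  have hTUeq : T = (U : Subgroup G) := by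
    apply Subgroup.eq_of_le_of_card_ge hTU
    rw [card_eq hT]
    obtain ⟨n, hn⟩ := IsPGroup.iff_card.1 U.isPGroup'
    have h1 : Nat.card U ∣ Nat.card (Matrix.SpecialLinearGroup (Fin 2) F) ^ 2 := by
      rw [← C.card_cent hm3 hF h4 hS hww]
      exact Subgroup.card_dvd_of_le hUY
    have h2 := (P2 : Subgroup (Matrix.SpecialLinearGroup (Fin 2) F)).card_mul_index
    have h3 : Nat.card P2 = 2 ^ (k + 2) := by
      rw [← card_Q]
      exact Nat.card_congr e.toEquiv
    rw [h3] at h2
    rw [← h2, mul_pow, ← pow_mul] at h1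
    have h5 : Nat.Coprime (Nat.card U) ((P2 : Subgroup (Matrix.SpecialLinearGroup (Fin 2) F)).index ^ 2) := by
      rw [hn]
      apply Nat.Coprime.pow
      exact (Nat.Prime.coprime_iff_not_dvd Nat.prime_two).2 P2.not_dvd_index
    have h6 := h5.dvd_of_dvd_mul_right h1
    have h7 := Nat.le_of_dvd (by positivity) h6
    calc Nat.card U ≤ 2 ^ ((k + 2) * 2) := h7
      _ = 2 ^ (2 * k + 4) := by congr 1; ring
  obtain ⟨P, f', s', hP⟩ := Cfsg.Agent.SylowSp4.Recog.exists_sylow hodd P2 hk e
  subst hTUeq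
  exact ⟨U, P, iso_of_TSp hT hP⟩

end Ctx

end Cfsg.Agent.H334.Sp4
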